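import Cfsg.Agent.KM.Xc.Tor

/-!
# KM, exceptional covers: abelian lifts (helper33)

`exists_ab` : an abelian `l`-subgroup of order divisible by `l ^ 3` of a quotient by a central subgroup of order `l`
has an abelian lift of order divisible by `l ^ 3`.
-/

set_option autoImplicit false
set_option linter.unusedSectionVars false

namespace Cfsg.Agent.KM.Xc

open Subgroup

variable {H S : Type} [Group H] [Finite H] [Group S] {l : ℕ} [hl : Fact l.Prime]

/-- the centre of a subgroup -/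
def zc (W : Subgroup H) : Subgroup H := W ⊓ centralizer (W : Set H)

theorem zc_le_zc {W : Subgroup H} {a : H} (ha : a ∈ W) : zc W ≤ zc (W ⊓ centralizer {a}) := fun _ hx =>
  ⟨⟨hx.1, mem_centralizer_singleton_iff.2 (mem_centralizer_iff.1 hx.2 a ha).symm⟩,
    mem_centralizer_iff.2 fun w hw => mem_centralizer_iff.1 hx.2 w hw.1⟩

theorem mem_zc {W : Subgroup H} {a : H} (ha : a ∈ W) : a ∈ zc (W ⊓ centralizer {a}) :=
  ⟨⟨ha, mem_centralizer_singleton_iff.2 rfl⟩, mem_centralizer_iff.2 fun _ hw => mem_centralizer_singleton_iff.1 hw.2⟩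

theorem pow_succ_dvd {A B : Subgroup H} (hB : IsPGroup l B) (h : A ≤ B) {x : H} (h1 : x ∈ B) (h2 : x ∉ A) {i : ℕ}
    (hi : l ^ i ∣ Nat.card A) : l ^ (i + 1) ∣ Nat.card B := by
  obtain ⟨b, hb⟩ := hB.exists_card_eq
  have h3 : Nat.card A < Nat.card B := lt_of_le_of_ne (card_le_of_le h) fun e => h2 (eq_of_le_of_card_ge h e.ge ▸ h1)
  have h4 := (Nat.le_of_dvd Nat.card_pos hi).trans_lt h3
  rw [hb] at h4 ⊢
  exact pow_dvd_pow l ((Nat.pow_lt_pow_iff_right hl.out.one_lt).1 h4)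

omit hl in
theorem card_comap {π : H →* S} (hs : Function.Surjective π) (D : Subgroup S) :
    Nat.card (D.comap π) = Nat.card D * Nat.card π.ker := by
  have : Finite S := Finite.of_surjective _ hs
  have h1 := (D.comap π).card_mul_index
  have h2 := π.ker.card_mul_index
  rw [index_comap_of_surjective _ hs] at h1
  rw [index_ker, MonoidHom.range_eq_top.2 hs, card_top, ← D.card_mul_index, ← h1] at h2
  refine Nat.eq_of_mul_eq_mul_right (Nat.pos_of_ne_zero D.index_ne_zero_of_finite) ?_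
  rw [← h2]
  ring

omit hl in
/-- the centraliser has small index -/
theorem card_dvd_cen {Z V : Subgroup H} (hZ : Z ≤ center H) {a : H} (h : ∀ g ∈ V, g * a * g⁻¹ * a⁻¹ ∈ Z) :
    Nat.card V ∣ Nat.card ↥(V ⊓ centralizer {a}) * Nat.card Z := by
  let φ : V →* Z := MonoidHom.mk' (fun g => ⟨_, h g g.2⟩) fun g g' => Subtype.ext (by
    have h1 := mem_center_iff.1 (hZ (h g' g'.2)) g
    change (g * g' : H) * a * (g * g' : H)⁻¹ * a⁻¹ = g * a * (g : H)⁻¹ * a⁻¹ * (g' * a * (g' : H)⁻¹ * a⁻¹)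
    rw [mem_center_iff.1 (hZ (h g' g'.2)), ← mul_assoc _ _ a⁻¹, ← mul_assoc _ _ (g : H)⁻¹, ← mul_assoc _ (g : H) a, ← h1]
    group)
  have h1 : φ.ker = (V ⊓ centralizer {a}).subgroupOf V := Subgroup.ext fun g => by
    rw [MonoidHom.mem_ker, mem_subgroupOf, Subtype.ext_iff, mem_inf, mem_centralizer_singleton_iff]
    change (g : H) * a * (g : H)⁻¹ * a⁻¹ = 1 ↔ _
    rw [mul_inv_eq_one, mul_inv_eq_iff_eq_mul]
    exact (and_iff_right g.2).symm
  rw [← φ.ker.card_mul_index, index_ker, h1, Nat.card_congr (subgroupOfEquivOfLe inf_le_left).toEquiv]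
  exact Nat.mul_dvd_mul_left _ (card_subgroup_dvd_card _)

/-- **abelian lifts** -/
theorem exists_ab {π : H →* S} (hs : Function.Surjective π) (hk : π.ker ≤ center H) (h3 : Nat.card π.ker ∣ l)
    {D : Subgroup S} (hD : IsPGroup l D) (hab : ∀ a ∈ D, ∀ b ∈ D, Commute a b) (h0 : l ^ 3 ∣ Nat.card D) :
    ∃ E : Subgroup H, IsPGroup l E ∧ l ^ 3 ∣ Nat.card E ∧ (∀ z ∈ E, π z ∈ D) ∧ ∀ a ∈ E, ∀ b ∈ E, a * b = b * a := by
  let V := D.comap π
  have hK : IsPGroup l π.ker := by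
    obtain h | h := (Nat.dvd_prime hl.out).1 h3
    · exact IsPGroup.of_card (n := 0) h
    · exact IsPGroup.of_card (n := 1) (h.trans (pow_one l).symm)
  have hV : IsPGroup l V := hD.comap_of_ker_isPGroup π hK
  have hc : ∀ a ∈ V, ∀ g ∈ V, g * a * g⁻¹ * a⁻¹ ∈ π.ker := fun a ha g hg => by
    rw [MonoidHom.mem_ker, map_mul, map_mul, map_mul, map_inv, map_inv, (hab _ hg _ ha).eq]
    group
  by_cases h1 : ∀ a ∈ V, ∀ b ∈ V, a * b = b * a
  · exact ⟨V, hV, card_comap hs D ▸ h0.mul_right _, fun _ h => h, h1⟩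
  push Not at h1
  obtain ⟨g, hg, a, ha, h1⟩ := h1
  have h2 : g * a * g⁻¹ * a⁻¹ ∉ (⊥ : Subgroup H) := fun h => h1 (by
    rwa [mem_bot, mul_inv_eq_one, mul_inv_eq_iff_eq_mul] at h)
  have h4 : Nat.card π.ker = l := ((Nat.dvd_prime hl.out).1 h3).resolve_left fun h =>
    h2 (eq_bot_of_card_eq _ h ▸ hc a ha g hg)
  let C := V ⊓ centralizer {a}
  have hC : IsPGroup l C := hV.to_le inf_le_left
  by_cases h5 : ∀ x ∈ C, ∀ y ∈ C, x * y = y * x
  · refine ⟨C, hC, ?_, fun _ h => h.1, h5⟩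
    have h6 := card_dvd_cen hk (hc a ha)
    rw [card_comap hs D] at h6
    exact h0.trans (Nat.dvd_of_mul_dvd_mul_right Nat.card_pos h6)
  push Not at h5
  obtain ⟨x, hx, b, hb, h5⟩ := h5
  have hz : ∀ {W : Subgroup H}, W ≤ V → IsPGroup l (zc W) := fun h => hV.to_le (inf_le_left.trans h)
  refine ⟨zc (C ⊓ centralizer {b}), hz (inf_le_left.trans inf_le_left), ?_, fun _ h => h.1.1.1,
    fun y hy z hz => mem_centralizer_iff.1 hz.2 y hy.1⟩
  refine pow_succ_dvd (hz (inf_le_left.trans inf_le_left)) (zc_le_zc hb) (mem_zc hb)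
    (fun h => h5 (mem_centralizer_iff.1 h.2 x hx)) (pow_succ_dvd (hz inf_le_left) (zc_le_zc ha) (mem_zc ha)
    (fun h => h1 (mem_centralizer_iff.1 h.2 g hg)) (pow_succ_dvd (hz le_rfl) bot_le ?_ h2 (one_dvd _)))
  exact ⟨V.mul_mem (V.mul_mem (V.mul_mem hg ha) (V.inv_mem hg)) (V.inv_mem ha),
    mem_centralizer_iff.2 fun w _ => mem_center_iff.1 (hk (hc a ha g hg)) w⟩

end Cfsg.Agent.KM.Xc
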