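import Cfsg.Agent.KM.Xc.Key
import Cfsg.Agent.SB.Exc.Card

/-!
# KM, exceptional covers: large toral subgroups (helper33)

* `Cv.TB c X l m` : no rational torus has order divisible by `m * s`, `s` a prime different from `p` and `l`;
* `Cv.abS_of_tor` : a toral subgroup of order divisible by `m` below `D` makes `D` a Sylow subgroup;
* `Cv.noA_of_lev`, `Cv.noA_of_inj`, `Cv.tb_of_bound`.
-/

set_option autoImplicit false
set_option linter.unusedSectionVars false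

namespace Cfsg.Agent.KM.Xc

open Cfsg Cfsg.Agent.DL Cfsg.Agent.DL.Asm Subgroup Cfsg.Agent.BHZ.Spor Cfsg.Agent.KM.Sp Cfsg.Agent.Nodes.Reps

variable {p : ℕ} [Fact p.Prime] {k : Type} [Field k] [CharP k p] {Y : Type} [Group Y] {N : Type} [Fintype N]
  [DecidableEq N] {ρ : Y →* GL N k} {F : MulAut Y} {G : Subgroup Y} [IsAlgClosed k]
  {S : Type} [Group S] (c : Cv p F G S) (X : Datum p ρ F G) {l : ℕ} [hl : Fact l.Prime]

/-- an element of order prime to `p` and `l` which centralises `Z` lies with `Z` in a rational torus -/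
theorem exists_torus {Z : Set Y} (hZ : Z ⊆ X.T) (hF : ∀ z ∈ Z, F z = z) (he : ∀ z ∈ Z, ∃ j : ℕ, z ^ l ^ j = 1) {x : Y}
    (hx : x ∈ GF F G) (hc : x ∈ centralizer Z) (h1 : ¬ p ∣ orderOf x) (h2 : ¬ l ∣ orderOf x) :
    ∃ y ∈ X.cen Z, y⁻¹ * F y ∈ X.NN ∧ x ∈ cj y X.T ∧ Z ⊆ cj y X.T := by
  obtain ⟨y, hy, hN, h3⟩ := TO.E6.exists_frame_cen X hZ (fun z hz => by rw [hF z hz]; exact hz)
    (TO.X.Cn.ppr_ord X hl.out hZ he hx.1 hc h2) (mem_GF.1 hx).2 h1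
  refine ⟨y, hy, hN, mem_cj.2 h3, fun z hz => mem_cj.2 ?_⟩
  rw [mul_assoc, mem_centralizer_iff.1 (X.cen_le_centralizer hZ hy) z hz, inv_mul_cancel_left]
  exact hZ hz

theorem not_dvd_prime {x : Y} {r s j : ℕ} (hr : r.Prime) (hs : s.Prime) (h : s ≠ r) (hx : x ^ s ^ j = 1) :
    ¬ r ∣ orderOf x :=
  not_dvd_of_pow (fun h1 => h ((Nat.prime_dvd_prime_iff_eq hr hs).1 (hr.dvd_of_dvd_pow h1)).symm) hx

variable (l) in
/-- no rational torus has order divisible by `m * s` -/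
def Cv.TB (m : ℕ) : Prop :=
  ∀ T ∈ tori X, ∀ s : ℕ, s.Prime → s ≠ p → s ≠ l → ¬ m * s ∣ Nat.card ↥(T ⊓ c.H0)

theorem Cv.ns_of_tb {m : ℕ} (hb : c.TB X l m) {E : Subgroup c.H0} (hE : IsPGroup l E) (hm : m ∣ Nat.card E)
    (hT : ∀ z ∈ E, (z : Y) ∈ X.T) : c.NS l (Subtype.val '' (E : Set c.H0)) := by
  intro x hx s j hs hsp hsl hj hc
  by_contra h0
  have := c.fin X
  obtain ⟨y, hy, hN, h1, h2⟩ := exists_torus X (l := l) (Z := Subtype.val '' (E : Set c.H0))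
    (by rintro _ ⟨z, hz, rfl⟩; exact hT z hz) (by rintro _ ⟨z, -, rfl⟩; exact (mem_GF.1 (c.le z.2)).2)
    (by
      rintro _ ⟨z, hz, rfl⟩
      obtain ⟨i, hi⟩ := pelt_of_mem hE hz
      exact ⟨i, congrArg Subtype.val hi⟩)
    (c.le hx) hc (not_dvd_prime Fact.out hs hsp hj) (not_dvd_prime hl.out hs hsl hj)
  have hyG := X.cen_le_G _ hy
  refine hb _ ⟨y, hyG, rfl, (X.stable_iff hyG).2 hN⟩ s hs hsp hsl (Nat.Coprime.mul_dvd_of_dvd_of_dvd ?_ ?_ ?_)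
  · obtain ⟨n, hn⟩ := hE.exists_card_eq
    exact (((Nat.coprime_primes hl.out hs).2 hsl.symm).pow_left n).coprime_dvd_left (hn ▸ hm)
  · refine hm.trans ?_
    rw [← card_map_of_injective (subtype_injective c.H0)]
    refine card_dvd_of_le ?_
    rintro _ ⟨z, hz, rfl⟩
    exact ⟨h2 ⟨z, hz, rfl⟩, z.2⟩
  · obtain ⟨i, -, hi⟩ := (Nat.dvd_prime_pow hs).1 (orderOf_dvd_of_pow_eq_one hj)
    refine dvd_trans ?_ (Subgroup.orderOf_dvd_natCard _ (show x ∈ cj y X.T ⊓ c.H0 from ⟨h1, hx⟩))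
    rw [hi]
    refine dvd_pow_self s fun h3 => h0 ?_
    rwa [h3, pow_zero, orderOf_eq_one_iff] at hi

/-- **a large toral subgroup** -/
theorem Cv.abS_of_tor (hlp : l ≠ p) {D : Subgroup S} (h : LocA l D) {m : ℕ} (hb : c.TB X l m) {E : Subgroup c.H0}
    (hE : IsPGroup l E) (hm : m ∣ Nat.card E) (hD : ∀ z ∈ E, c.π z ∈ D) {T : Subgroup Y} (hT : T ∈ tori X)
    (hle : ∀ z ∈ E, (z : Y) ∈ T) : LV.AbS l S := by
  obtain ⟨y, hy, rfl, h1⟩ := hT
  have hN := (X.stable_iff hy).1 h1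
  refine c.key (X.conj hy hN) hlp h (Z := E) hle (fun z hz => pelt_of_mem hE hz) hD
    (c.ns_of_tb (X.conj hy hN) ?_ hE hm hle)
  intro T hT
  rw [X.tori_conj] at hT
  exact hb T hT

/-- abelian `l`-subgroups are toral -/
def AllT (l : ℕ) : Prop :=
  ∀ E : Subgroup Y, E ≤ GF F G → IsPGroup l E → (∀ a ∈ E, ∀ b ∈ E, a * b = b * a) → ∃ T ∈ tori X, E ≤ T

theorem allT_of_lev {f : ℕ} (h : TO.X.Cn.Pi1 X f) (hlp : l ≠ p) (hf : l.Coprime f) (hL : Tor.Lev X l) : AllT X l := by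
  intro E hE hP hc
  have := X.amb.finite_GF G
  have : Finite E := Finite.of_injective _ (inclusion_injective hE)
  obtain ⟨y, hy, hN, h1, -⟩ := Tor.exists_frame h hl.out hlp hf hL (Z := E) (Set.toFinite _) (fun z hz => (hE hz).1)
    (fun z hz => by rw [(mem_GF.1 (hE hz)).2]; exact hz) (fun z hz => pelt_of_mem hP hz) hc
  exact ⟨_, ⟨y, hy, rfl, (X.stable_iff hy).2 hN⟩, h1⟩

/-- the general form: `D` has an abelian lift of order divisible by `m` -/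
theorem Cv.noA_of_allT (hlp : l ≠ p) (hA : AllT X l) {m d : ℕ} (hb : c.TB X l m) (hS : ¬ LV.AbS l S)
    (hE : ∀ D : Subgroup S, LocA l D → l ^ d ∣ Nat.card D → ∃ E : Subgroup c.H0, IsPGroup l E ∧ m ∣ Nat.card E ∧
      (∀ z ∈ E, c.π z ∈ D) ∧ ∀ a ∈ E, ∀ b ∈ E, a * b = b * a) : NoA l d S := by
  intro D hD h0
  obtain ⟨E, h1, h2, h3, h4⟩ := hE D hD h0
  obtain ⟨T, hT, h5⟩ := hA (E.map c.H0.subtype) ((map_subtype_le _).trans c.le) (h1.map _) (by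
    rintro _ ⟨a, ha, rfl⟩ _ ⟨b, hb, rfl⟩
    exact congrArg Subtype.val (h4 a ha b hb))
  exact hS (c.abS_of_tor X hlp hD hb h1 h2 h3 hT fun z hz => h5 ⟨z, hz, rfl⟩)

/-- **`π` injective** -/
theorem Cv.noA_of_inj (hlp : l ≠ p) (hA : AllT X l) (hπ : Function.Injective c.π) {d : ℕ} (hb : c.TB X l (l ^ d))
    (hS : ¬ LV.AbS l S) : NoA l d S :=
  c.noA_of_allT X hlp hA hb hS fun D hD h0 =>
    ⟨D.comap c.π, hD.pg.comap_of_injective _ hπ, by
      rwa [← card_map_of_injective hπ, map_comap_eq_self_of_surjective c.surj], fun _ hz => hz,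
      fun a ha b hb => hπ (by rw [map_mul, map_mul]; exact hD.ab _ ha _ hb)⟩

theorem Cv.noA_of_lev {f : ℕ} (h : TO.X.Cn.Pi1 X f) (hlp : l ≠ p) (hf : l.Coprime f) (hL : Tor.Lev X l)
    (hπ : Function.Injective c.π) {d : ℕ} (hb : c.TB X l (l ^ d)) (hS : ¬ LV.AbS l S) : NoA l d S :=
  c.noA_of_inj X hlp (allT_of_lev X h hlp hf hL) hπ hb hS

omit hl in
/-- the bound `(q + 1) ^ rank` -/
theorem Cv.tb_of_bound {n m s₀ : ℕ} (h : SB.Exc.Card.Fq p ρ F n) (hs : ∀ s : ℕ, s.Prime → s ≠ p → s ≠ l → s₀ ≤ s)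
    (hlt : (p ^ n + 1) ^ Fintype.card X.R < m * s₀) : c.TB X l m := by
  intro T hT s h1 h2 h3 hd
  have := X.amb.finite_GF G
  have : Finite ↥(T ⊓ GF F G) := Finite.of_injective _ (inclusion_injective inf_le_right)
  have h4 := Nat.le_of_dvd Nat.card_pos (hd.trans (card_dvd_of_le (inf_le_inf_left T c.le)))
  have h5 := (h.card_tori X hT).2
  have h6 := Nat.mul_le_mul_left m (hs s h1 h2 h3)
  omega

theorem five_le {s : ℕ} (hs : s.Prime) (h2 : s ≠ 2) (h3 : s ≠ 3) : 5 ≤ s := hs.five_le_of_ne_two_of_ne_three h2 h3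

/-- the whole group of fixed points -/
def Cv.ofEquiv (e : ↥(GF F G) ≃* S) : Cv p F G S where
  H0 := GF F G
  le := le_rfl
  uni _ h _ := h
  π := e.toMonoidHom
  surj := e.surjective
  ker := by
    rw [(MonoidHom.ker_eq_bot_iff _).2 e.injective]
    exact bot_le

/-- from a situation of `KZ.Lie` -/
def Cv.ofSit {Adm : Matrix X.R X.R ℤ → Prop} (s : KZ.Lie.Sit X Adm S) : Cv p F G S where
  H0 := s.H0
  le := s.le
  uni u hu h := s.uni u hu (by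
    obtain ⟨j, hj⟩ := h
    obtain ⟨i, -, hi⟩ := (Nat.dvd_prime_pow Fact.out).1 (orderOf_dvd_of_pow_eq_one hj)
    exact ⟨i, hi⟩)
  π := s.π
  surj := s.surj
  ker h hh := mem_center_iff.2 fun g => Subtype.ext ((s.ker h).1 hh g (s.le g.2).1)

end Cfsg.Agent.KM.Xc
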