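import Cfsg.Agent.KM.Sp.Loc
import Cfsg.Agent.H371.HT.Three
import Cfsg.Agent.S1059

/-!
# KM, exceptional covers: `G₂(4)` at the prime `3` (helper33)
-/

set_option autoImplicit false

namespace Cfsg.Agent.KM.Xc

open Cfsg Cfsg.Lie Cfsg.Agent.KM.Sp

theorem noA_g24 (F : Type) [Field F] [Fintype F] (h : Fintype.card F = 4) : NoA 3 3 ↥(chevG2.group F) := by
  have : Fact (Nat.Prime 3) := ⟨Nat.prime_three⟩
  have : Finite (GL chevG2.Idx F) := inferInstance
  exact noA_of_syl (by rw [S1059.result h]; norm_num)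
    (H371.HT.not_ab_untw (D := chevG2) (by simp) (by rw [h]; norm_num))

/-- **`G₂(4)`**, the shape `KM.Ex.XG 4 3` -/
theorem row_g24 : ∀ (F : Type) [Field F] [Fintype F], Fintype.card F = 4 → Row 3 ↥(chevG2.group F) :=
  fun F _ _ h =>
    have : Fact (Nat.Prime 3) := ⟨Nat.prime_three⟩
    row_of_noA (noA_g24 F h)

end Cfsg.Agent.KM.Xc
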