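import Mathlib

/-!
# KM, exceptional covers: the tori of `SU₆(2)` (helper33)
-/

set_option autoImplicit false

namespace Cfsg.Agent.KM.Xc

open Subgroup

theorem perm6 : ∀ (σ : Equiv.Perm (Fin 6)) (i : Fin 6), σ i ≠ i → σ (σ i) ≠ i → σ (σ (σ i)) ≠ i → ∃ j j' : Fin 6,
    (∀ m, m ≠ j' → m = i ∨ m = σ i ∨ m = σ (σ i) ∨ m = σ (σ (σ i)) ∨ m = j) ∧
      ((σ (σ (σ (σ i))) = i ∧ σ (σ j) = j) ∨ (j = σ (σ (σ (σ i))) ∧ (σ j = i ∨ σ (σ j) = i))) := by
  decide +kernel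

section comb

variable {A : Type} [CommGroup A] (σ : Equiv.Perm (Fin 6))

/-- the fixed points of determinant one -/
def fx : Subgroup (Fin 6 → A) where
  carrier := {c | (∀ j, c (σ j) = c j ^ (-2 : ℤ)) ∧ ∏ j, c j = 1}
  one_mem' := ⟨fun _ => (one_zpow _).symm, Finset.prod_const_one⟩
  mul_mem' := fun {a b} ha hb => ⟨fun j => by rw [Pi.mul_apply, Pi.mul_apply, ha.1, hb.1, mul_zpow], by
    simp only [Pi.mul_apply]
    rw [Finset.prod_mul_distrib, ha.2, hb.2, mul_one]⟩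
  inv_mem' := fun {a} ha => ⟨fun j => by rw [Pi.inv_apply, Pi.inv_apply, ha.1, inv_zpow], by
    simp only [Pi.inv_apply]
    rw [Finset.prod_inv_distrib, ha.2, inv_one]⟩

theorem pw_gcd {a : A} {m : ℤ} {n r : ℕ} (h1 : a ^ m = a) (h2 : a ^ n = 1) (h : Nat.gcd (m - 1).natAbs n ∣ r) :
    a ^ r = 1 := by
  have h3 : a ^ (m - 1).natAbs = 1 := by
    rw [← orderOf_dvd_iff_pow_eq_one, ← Int.natCast_dvd, orderOf_dvd_iff_zpow_eq_one, zpow_sub_one, h1, mul_inv_cancel]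
  exact orderOf_dvd_iff_pow_eq_one.1 ((Nat.dvd_gcd (orderOf_dvd_of_pow_eq_one h3) (orderOf_dvd_of_pow_eq_one h2)).trans h)

theorem not_dvd_fx (hA : ∀ r : ℕ, 0 < r → Finite {a : A // a ^ r = 1} ∧ Nat.card {a : A // a ^ r = 1} ≤ r)
    [Finite (fx (A := A) σ)] {s : ℕ} (hs : s.Prime) (h3 : s ≠ 3) : ¬ 3 ^ 3 * s ∣ Nat.card (fx (A := A) σ) := by
  intro h
  have : Fact s.Prime := ⟨hs⟩
  have : Fact (Nat.Prime 3) := ⟨Nat.prime_three⟩
  have e2 : ∀ c ∈ fx (A := A) σ, ∀ j, c (σ (σ j)) = c j ^ (4 : ℤ) := fun c hc j => by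
    rw [hc.1, hc.1, ← zpow_mul]; rfl
  have e3 : ∀ c ∈ fx (A := A) σ, ∀ j, c (σ (σ (σ j))) = c j ^ (-8 : ℤ) := fun c hc j => by
    rw [hc.1, e2 c hc, ← zpow_mul]; rfl
  have e4 : ∀ c ∈ fx (A := A) σ, ∀ j, c (σ (σ (σ (σ j)))) = c j ^ (16 : ℤ) := fun c hc j => by
    rw [hc.1, e3 c hc, ← zpow_mul]; rfl
  obtain ⟨x, hx⟩ := exists_prime_orderOf_dvd_card' s ((Dvd.intro_left _ rfl).trans h)
  obtain ⟨i, hi⟩ : ∃ i, x.1 i ≠ 1 := by
    by_contra h1
    push Not at h1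
    rw [show x = 1 from Subtype.ext (funext h1), orderOf_one] at hx
    exact hs.one_lt.ne hx
  have hxs : x.1 i ^ s = 1 := congrFun (congrArg Subtype.val (hx ▸ pow_orderOf_eq_one x)) i
  have hc : Nat.Coprime 3 s := (Nat.coprime_primes Nat.prime_three hs).2 h3.symm
  have key : ∀ m : ℤ, (m - 1).natAbs ∣ 3 ^ 2 → x.1 i ^ m ≠ x.1 i := fun m hm e => hi (by
    rw [← pow_one (x.1 i)]
    exact pw_gcd e hxs ((hc.pow_left 2).coprime_dvd_left hm).gcd_eq_one.dvd)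
  obtain ⟨j, j', h1, h2⟩ := perm6 σ i (fun e => key (-2) (by decide) (by rw [← x.2.1, e]))
    (fun e => key 4 (by decide) (by rw [← e2 _ x.2, e])) (fun e => key (-8) (by decide) (by rw [← e3 _ x.2, e]))
  obtain ⟨P, hP⟩ := Sylow.exists_subgroup_card_pow_prime 3 ((Dvd.intro _ rfl).trans h)
  have h27 : ∀ (c : P) m, c.1.1 m ^ 27 = 1 := fun c m =>
    congrFun (congrArg (fun c : P => c.1.1) (show c ^ 27 = 1 from (show Nat.card P = 27 from hP) ▸ pow_card_eq_one')) m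
  have inj : ∀ c c' : P, c.1.1 i = c'.1.1 i → c.1.1 j = c'.1.1 j → c = c' := fun c c' a1 a2 => by
    have a3 : ∀ m, m ≠ j' → c.1.1 m = c'.1.1 m := fun m hm => by
      rcases h1 m hm with rfl | rfl | rfl | rfl | rfl
      · exact a1
      · rw [c.1.2.1, c'.1.2.1, a1]
      · rw [e2 _ c.1.2, e2 _ c'.1.2, a1]
      · rw [e3 _ c.1.2, e3 _ c'.1.2, a1]
      · exact a2
    have a4 := c.1.2.2.trans c'.1.2.2.symm
    rw [Fintype.prod_eq_mul_prod_compl j', Fintype.prod_eq_mul_prod_compl j',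
      Finset.prod_congr rfl fun m hm => a3 m (Finset.notMem_singleton.1 (Finset.mem_compl.1 hm)), mul_left_inj] at a4
    exact Subtype.ext (Subtype.ext (funext fun m => if hm : m = j' then hm ▸ a4 else a3 m hm))
  have h9 : Nat.card P ≤ 9 := by
    rcases h2 with ⟨b1, b2⟩ | ⟨b1, b2⟩
    · obtain ⟨_, b3⟩ := hA 3 (by norm_num)
      let f : P → {a : A // a ^ 3 = 1} × {a : A // a ^ 3 = 1} := fun c =>
        (⟨c.1.1 i, pw_gcd (m := 16) (by rw [← e4 _ c.1.2, b1]) (h27 c i) (by decide)⟩,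
          ⟨c.1.1 j, pw_gcd (m := 4) (by rw [← e2 _ c.1.2, b2]) (h27 c j) (by decide)⟩)
      refine (Nat.card_le_card_of_injective f fun c c' e => inj c c' (congrArg (·.1.1) e) (congrArg (·.2.1) e)).trans ?_
      rw [Nat.card_prod]
      exact Nat.mul_le_mul b3 b3
    · obtain ⟨_, b3⟩ := hA 9 (by norm_num)
      have b4 : ∀ c : P, c.1.1 j = c.1.1 i ^ (16 : ℤ) := fun c => by rw [b1, e4 _ c.1.2]
      let f : P → {a : A // a ^ 9 = 1} := fun c => ⟨c.1.1 i, by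
        rcases b2 with b2 | b2
        · exact pw_gcd (m := 16 * (-2)) (by rw [zpow_mul, ← b4, ← c.1.2.1, b2]) (h27 c i) (by decide)
        · exact pw_gcd (m := 16 * 4) (by rw [zpow_mul, ← b4, ← e2 _ c.1.2, b2]) (h27 c i) (by decide)⟩
      exact (Nat.card_le_card_of_injective f fun c c' e => inj c c' (congrArg (·.1) e)
        (by rw [b4, b4, show c.1.1 i = c'.1.1 i from congrArg (·.1) e])).trans b3
  omega

end comb

end Cfsg.Agent.KM.Xc
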