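import Cfsg.Agent.KM.Xc.Ab
import Cfsg.Agent.KM.Xc.U62a
import Cfsg.Agent.KM.A.Tor
import Cfsg.Agent.H341.Rel.PsuRow

/-!
# KM, exceptional covers: `U₆(2)` at the prime `3` (helper33)
-/

set_option autoImplicit false
set_option linter.unusedSectionVars false

namespace Cfsg.Agent.KM.Xc

open Cfsg Cfsg.Agent.DL Cfsg.Agent.DL.Asm Subgroup Cfsg.Agent.KM.Sp Cfsg.Agent.KZ.Dat Cfsg.Agent.ODD.C2
  Cfsg.Agent.ODD.C2.GlA Cfsg.Agent.Nodes.Reps

theorem card_roots (k : Type) [Field k] (r : ℕ) (hr : 0 < r) :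
    Finite {a : kˣ // a ^ r = 1} ∧ Nat.card {a : kˣ // a ^ r = 1} ≤ r :=
  have : NeZero r := ⟨hr.ne'⟩
  ⟨(inferInstance : Finite (rootsOfUnity r k)), card_rootsOfUnity k r⟩

theorem mon_spm {k : Type} [Field k] {ι : Type} [Fintype ι] [DecidableEq ι] (π : Equiv.Perm ι) (c : ι → kˣ) (j : ι) :
    mon (spm π 1) c (π j) = c j := by
  rw [mon_apply, ← chr_single j c]
  refine congrArg (chr · c) (funext fun m => ?_)
  rw [spm_apply, Pi.single_apply]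
  exact if_congr (π.injective.eq_iff.trans eq_comm) rfl rfl

theorem spm_BA (π : Equiv.Perm (Fin (5 + 1))) :
    spm π 1 * (((2 : ℕ) : ℤ) ^ 1 • BA 5) = (-2 : ℤ) • spm (π * Fin.revPerm) 1 := by
  rw [BA_eq, mul_smul_comm, mul_neg, spm_mul, smul_neg, ← neg_smul]
  rfl

variable {k : Type} [Field k] [CharP k 2] [IsAlgClosed k] [Fact (Nat.Prime 2)] (hk : ∀ a : k, ∃ j, 0 < j ∧ a ^ 2 ^ j = a)
  {F : Type} [Field F] [Fintype F] (f : F →+* k) (hF : Fintype.card F = (2 ^ 1) ^ 2)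

/-- the cover -/
noncomputable abbrev cvU : Cv 2 (γA 5 k * frP _ 2 k 1) (GA 5 k) (PSU (5 + 1) F (2 ^ 1)) :=
  Cv.ofSit (datU 5 hk one_pos) (covU f hk one_pos hF (by norm_num) (by norm_num)).sit

theorem tbU : (cvU hk f hF).TB (datU 5 hk one_pos) 3 (3 ^ 3) := by
  rintro _ ⟨y, hy, rfl, h1⟩ s hs - h3
  have hN := ((datU 5 hk one_pos).stable_iff hy).1 h1
  obtain ⟨w, hw⟩ : ∃ w, ((datU 5 hk one_pos).conj hy hN).Mx = (datU 5 hk one_pos).Wm w * (datU 5 hk one_pos).Mx :=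
    ⟨_, rfl⟩
  obtain ⟨σ, h2⟩ : ∃ σ : Equiv.Perm (Fin 6), ((datU 5 hk one_pos).conj hy hN).Mx = (-2 : ℤ) • spm σ 1 :=
    ⟨pwA 5 w * Fin.revPerm, hw.trans ((congrArg₂ (· * ·) (datA_Wm hk one_pos syG w) (datU_Mx 5 hk one_pos)).trans (spm_BA _))⟩
  obtain ⟨τ, hτ⟩ : ∃ τ : (Fin 6 → kˣ) →* GL (Fin (5 + 1)) k, τ = ((datU 5 hk one_pos).conj hy hN).τ := ⟨_, rfl⟩
  have hi : Function.Injective τ := hτ ▸ ((datU 5 hk one_pos).conj hy hN).τ_inj
  have h4 : ∀ c : Fin 6 → kˣ, τ c ∈ (cvU hk f hF).H0 ↔ c ∈ fx σ := fun c => by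
    refine (covU_H0 f hk one_pos hF _ _ _).trans (and_congr ?_ ?_)
    · have h5 : τ c ∈ GF _ _ ↔ mon ((-2 : ℤ) • spm σ 1 - 1) c = 1 :=
        hτ ▸ h2 ▸ ((datU 5 hk one_pos).conj hy hN).τ_mem_GF (c := c)
      rw [h5, mon_sub, mon_one, mul_inv_eq_one, mon_zsmul]
      refine ⟨fun h j => by rw [← mon_spm σ c j, ← Pi.pow_apply, h], fun h => funext fun j => ?_⟩
      obtain ⟨j, rfl⟩ := σ.surjective j
      rw [Pi.pow_apply, mon_spm, h]
    · rw [show τ c = y * (datU 5 hk one_pos).τ c * y⁻¹ from hτ ▸ rfl, map_mul, map_mul, map_inv, mul_inv_cancel_comm]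
      exact (congrArg (· = 1) (datA_det hk one_pos syG c)).to_iff
  have h5 : cj y (datU 5 hk one_pos).T ⊓ (cvU hk f hF).H0 = (fx σ).map τ := by
    refine Subgroup.ext fun t => ⟨fun ht => ?_, ?_⟩
    · obtain ⟨c, hc⟩ := (((datU 5 hk one_pos).conj hy hN).mem_T t).1 ht.1
      rw [← hτ] at hc
      exact ⟨c, (h4 c).1 (hc ▸ ht.2), hc⟩
    · rintro ⟨c, hc, rfl⟩
      exact ⟨hτ ▸ ((datU 5 hk one_pos).conj hy hN).τ_mem c, (h4 c).2 hc⟩
  have := (cvU hk f hF).fin (datU 5 hk one_pos)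
  have h6 : Finite ↥((fx σ).map τ) := h5 ▸ Finite.of_injective _ (inclusion_injective inf_le_right)
  have := Finite.of_equiv _ ((fx σ).equivMapOfInjective τ hi).symm.toEquiv
  rw [h5, card_map_of_injective hi]
  exact not_dvd_fx _ (card_roots k) hs h3

theorem kerU : Nat.card (cvU hk f hF).π.ker ∣ 3 := by
  have : Fact (Nat.Prime 3) := ⟨Nat.prime_three⟩
  have := (cvU hk f hF).fin (datU 5 hk one_pos)
  have h1 : ∀ z : (cvU hk f hF).π.ker, ∃ a : {a : kˣ // a ^ 3 = 1}, z.1.1 = (smA 5).τ k fun _ => a.1 := fun z => by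
    obtain ⟨a, ha⟩ := (cen_iff z.1.1).1 (((covU f hk one_pos hF (by norm_num) (by norm_num)).sit.ker z.1).1 z.2)
    have h2 := (cvU hk f hF).le z.1.2
    rw [ha] at h2
    have h3 : (a ^ 2 ^ 1)⁻¹ = a := τ_mem_GFU.1 h2 0
    exact ⟨⟨a, by rw [pow_succ]; exact mul_eq_one_iff_inv_eq.2 h3⟩, ha⟩
  choose a ha using h1
  obtain ⟨_, h2⟩ := card_roots k 3 (by norm_num)
  have h3 := (Nat.card_le_card_of_injective a fun z z' e => Subtype.ext (Subtype.ext (by rw [ha, ha, e]))).trans h2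
  have h4 : IsPGroup 3 (cvU hk f hF).π.ker := fun z => ⟨1, Subtype.ext (Subtype.ext (by
    change z.1.1 ^ 3 ^ 1 = 1
    rw [ha, ← map_pow, ← ((smA 5).τ k).map_one]
    exact congrArg _ (funext fun _ => (a z).2)))⟩
  obtain ⟨n, hn⟩ := h4.exists_card_eq
  rw [hn] at h3 ⊢
  exact pow_one 3 ▸ pow_dvd_pow 3 ((Nat.pow_le_pow_iff_right (by norm_num)).1 (h3.trans (pow_one 3).ge))

theorem not_abS_u62 (F : Type) [Field F] [Fintype F] (h : Fintype.card F = 4) : ¬ LV.AbS 3 (PSU 6 F 2) := fun hA => by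
  obtain ⟨w, hw⟩ := H341.Rel.exists_order (F := F) (r := 3) (by rw [h])
  have h1 : w ^ 3 = 1 := hw ▸ pow_orderOf_eq_one w
  refine H341.Rel.not_ab_psu (n := 6) (q := 2) (p := 3) (k := 1) (by norm_num) Nat.prime_three (by norm_num) (by norm_num)
    h1 h1 ?_ (Or.inl (by norm_num)) fun P a ha b hb => congrArg Subtype.val ((hA P).is_comm.comm ⟨a, ha⟩ ⟨b, hb⟩)
  rintro rfl
  rw [orderOf_one] at hw
  omega

theorem noA_u62 (F : Type) [Field F] [Fintype F] (h : Fintype.card F = 4) : NoA 3 3 (PSU 6 F 2) := by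
  have : Fact (Nat.Prime 3) := ⟨Nat.prime_three⟩
  obtain ⟨p, hp, e, k, _, _, _, f, hk, -, h1⟩ := hasU F (q := 2) h
  obtain ⟨rfl, rfl⟩ := (Nat.prime_two.pow_eq_iff).1 h1.symm
  have := (cvU hk f h).fin (datU 5 hk one_pos)
  exact (cvU hk f h).noA_of_allT (datU 5 hk one_pos) (by norm_num)
    (allT_of_lev _ (A.pi1_A hk one_pos _) (by norm_num) (Nat.coprime_one_right 3) (A.lev_A hk one_pos _ 3))
    (tbU hk f h) (not_abS_u62 F h) fun D hD h0 => exists_ab (cvU hk f h).surj (cvU hk f h).ker (kerU hk f h) hD.pg hD.ab h0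

/-- **`U₆(2)`** -/
theorem row_u62 (F : Type) [Field F] [Fintype F] (h : Fintype.card F = 4) : Row 3 (PSU 6 F 2) :=
  have : Fact (Nat.Prime 3) := ⟨Nat.prime_three⟩
  row_of_noA (noA_u62 F h)

end Cfsg.Agent.KM.Xc
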