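import Cfsg.Agent.KM.Xc.E6F

/-!
# KM, exceptional covers: the lattice `E₆` modulo three (helper33)
-/

set_option autoImplicit false
set_option linter.unusedSectionVars false

namespace Cfsg.Agent.KM.Xc.E6

open Cfsg Cfsg.Lie Matrix Cfsg.Agent.DL Cfsg.Agent.Nodes.RGDChev Cfsg.Agent.KM.Tor Cfsg.Agent.KZ.DatX
  Cfsg.Agent.ChevalleyStructure.CoxeterGeomTypes Cfsg.Agent.Tits.Roots Cfsg.Agent.ChevalleyStructure.CoxeterGeom
open Cfsg.Agent.H931.KC (hr)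
open Cfsg.Agent.TO.X.Cn (cl stab_vec exists_cl)

theorem c6_add (x y : V6) : c6 (x + y) = c6 x + c6 y := funext fun i => by
  fin_cases i <;> simp [c6] <;> ring

theorem c6_smul (m : ℤ) (x : V6) : c6 (m • x) = m • c6 x := funext fun i => by
  fin_cases i <;> simp [c6] <;> ring

theorem c6_sub (x y : V6) : c6 (x - y) = c6 x - c6 y := funext fun i => by
  fin_cases i <;> simp [c6] <;> ring

theorem c6_inj {x y : V6} (h : c6 x = c6 y) : x = y := by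
  have h0 : 2 * x 0 - x 2 = 2 * y 0 - y 2 := congrFun h 0
  have h1 : 2 * x 1 - x 3 = 2 * y 1 - y 3 := congrFun h 1
  have h2 : 2 * x 2 - x 0 - x 3 = 2 * y 2 - y 0 - y 3 := congrFun h 2
  have h3 : 2 * x 3 - x 1 - x 2 - x 4 = 2 * y 3 - y 1 - y 2 - y 4 := congrFun h 3
  have h4 : 2 * x 4 - x 3 - x 5 = 2 * y 4 - y 3 - y 5 := congrFun h 4
  have h5 : 2 * x 5 - x 4 = 2 * y 5 - y 4 := congrFun h 5
  funext i
  fin_cases i <;> simp only [Fin.zero_eta, Fin.mk_one, Fin.reduceFinMk] <;> omega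

theorem bb_sq (a b : ℤ) (x y : V6) :
    bb (a • x + b • y) (a • x + b • y) = a ^ 2 * bb x x + 2 * a * b * bb y x + b ^ 2 * bb y y := by
  simp only [bb, Pi.add_apply, Pi.smul_apply, smul_eq_mul]
  ring

theorem bb_add3 (x y : V6) : 3 ∣ bb (x + (3 : ℤ) • y) (x + (3 : ℤ) • y) - bb x x :=
  ⟨2 * bb y x + 3 * bb y y, by
    have := bb_sq 1 3 x y
    rw [one_smul] at this
    rw [this]
    ring⟩

theorem Cn.dvd {x : V6} (h : Cn x) (y : V6) : 3 ∣ bb y x :=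
  bb_eq y x ▸ Finset.dvd_sum fun i _ => (h i).mul_left _

theorem Cn.add3 {x : V6} (h : Cn x) (y : V6) : Cn (x + (3 : ℤ) • y) := fun i => by
  rw [c6_add, c6_smul]
  exact dvd_add (h i) (dvd_mul_right _ _)

theorem Cn.add {x y : V6} (h : Cn x) (h' : Cn y) : Cn (x + y) := fun i => by
  rw [c6_add]
  exact dvd_add (h i) (h' i)

theorem Cn.sub {x y : V6} (h : Cn x) (h' : Cn y) : Cn (x - y) := fun i => by
  rw [c6_sub]
  exact dvd_sub (h i) (h' i)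

/-- the generator of the radical -/
def r0 : V6 := ![1, 0, 2, 0, 1, 2]

theorem Cn.eq {x : V6} (h : Cn x) : ∃ y, x = x 0 • r0 + (3 : ℤ) • y := by
  have h0 : 3 ∣ 2 * x 0 - x 2 := h 0
  have h1 : 3 ∣ 2 * x 1 - x 3 := h 1
  have h2 : 3 ∣ 2 * x 2 - x 0 - x 3 := h 2
  have h3 : 3 ∣ 2 * x 3 - x 1 - x 2 - x 4 := h 3
  have h5 : 3 ∣ 2 * x 5 - x 4 := h 5
  refine ⟨fun i => (x i - x 0 * r0 i) / 3, funext fun i => ?_⟩
  fin_cases i <;> simp [r0] <;> omega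

theorem Cn.tri {x : V6} (h : Cn x) (h9 : 9 ∣ bb x x) (i : Fin 6) : 3 ∣ x i := by
  obtain ⟨y, hy⟩ := h.eq
  generalize x 0 = e at hy
  have h1 : bb r0 r0 = 12 := by decide
  have h2 : bb y r0 = 3 * (y 2 - y 3 + y 5) := by simp [bb, r0]; ring
  rw [hy, bb_sq, h1, h2] at h9
  have h3 : (3 : ℤ) ∣ e := Int.prime_three.dvd_of_dvd_pow (n := 2) (by
    obtain ⟨m, hm⟩ := h9
    exact ⟨m - e ^ 2 - 2 * e * (y 2 - y 3 + y 5) - bb y y, by linarith⟩)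
  rw [hy]
  exact dvd_add (h3.mul_right _) (dvd_mul_right _ _)

theorem three (x y z : V6) : ∃ i j k : Fin 3, ¬ (i = 0 ∧ j = 0 ∧ k = 0) ∧
    3 ∣ bb (((i : ℕ) : ℤ) • x + ((j : ℕ) : ℤ) • y + ((k : ℕ) : ℤ) • z) (((i : ℕ) : ℤ) • x + ((j : ℕ) : ℤ) • y + ((k : ℕ) : ℤ) • z) := by
  obtain ⟨i, j, k, h1, h2⟩ := fc_three (bb x x) (bb y y) (bb z z) (bb x y) (bb x z) (bb y z)
  refine ⟨i, j, k, h1, (ZMod.intCast_zmod_eq_zero_iff_dvd _ 3).1 (Eq.trans ?_ h2)⟩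
  rw [show bb (((i : ℕ) : ℤ) • x + ((j : ℕ) : ℤ) • y + ((k : ℕ) : ℤ) • z) (((i : ℕ) : ℤ) • x + ((j : ℕ) : ℤ) • y + ((k : ℕ) : ℤ) • z) =
    ((i : ℕ) : ℤ) ^ 2 * bb x x + ((j : ℕ) : ℤ) ^ 2 * bb y y + ((k : ℕ) : ℤ) ^ 2 * bb z z +
      2 * ((i : ℕ) * (j : ℕ) * bb x y + (i : ℕ) * (k : ℕ) * bb x z + (j : ℕ) * (k : ℕ) * bb y z) by
    simp only [bb, Pi.add_apply, Pi.smul_apply, smul_eq_mul]
    ring]
  push_cast
  rfl

theorem two (x y : V6) (h : ∀ i : ℕ, ¬ 3 ∣ bb (x + (i : ℤ) • y) (x + (i : ℤ) • y) ∧ ¬ 3 ∣ bb (x + (i : ℤ) • y) (x + (i : ℤ) • y) - 2) :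
    3 ∣ bb y y := by
  have e : ∀ i : ℤ, bb (x + i • y) (x + i • y) = bb x x + 2 * i * bb y x + i ^ 2 * bb y y := fun i => by
    have := bb_sq 1 i x y
    rw [one_smul] at this
    rw [this]
    ring
  have h0 := h 0
  have h1 := h 1
  have h2 := h 2
  rw [e] at h0 h1 h2
  push_cast at h0 h1 h2
  omega

variable {r : ℕ} [Fact r.Prime] {k : Type} [Field k] [CharP k r] [IsAlgClosed k] {Mx : Matrix (Fin 6) (Fin 6) ℤ}
  (X : XF hpE6 r k Mx)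

/-- the action on the lattice -/
noncomputable def ac (w : X.D.W) (x : V6) : V6 := X.D.act w x

/-- the matrix -/
noncomputable def wm (w : X.D.W) : Matrix (Fin 6) (Fin 6) ℤ := X.D.Wm w

theorem ac_add (w : X.D.W) (x y : V6) : ac X w (x + y) = ac X w x + ac X w y := map_add (rep X.D.cs X.D.h w) x y

theorem ac_smul (w : X.D.W) (m : ℤ) (x : V6) : ac X w (m • x) = m • ac X w x := map_smul (rep X.D.cs X.D.h w) m x

theorem ac_mul (v w : X.D.W) (x : V6) : ac X (v * w) x = ac X v (ac X w x) := act_mul' v w x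

theorem ac_inv (w : X.D.W) (x : V6) : ac X w (ac X w⁻¹ x) = x := act_act_inv w x

theorem inv_ac (w : X.D.W) (x : V6) : ac X w⁻¹ (ac X w x) = x := act_inv_act w x

theorem dot_wm (w : X.D.W) (x v : V6) : x ⬝ᵥ wm X w *ᵥ v = ac X w⁻¹ x ⬝ᵥ v := dot_Wm (X := X.D) w x v

theorem wm_mul (v w : X.D.W) : wm X (v * w) = wm X v * wm X w := X.D.Wm_mul v w

theorem wm_inv (w : X.D.W) (v : V6) : wm X w *ᵥ wm X w⁻¹ *ᵥ v = v := Wm_Wm_inv (X := X.D) w v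

theorem cl_eq (b : V6) : cl X.D b = c6 b := (funext fun j => Finset.sum_apply j _ _).trans (co_eq b)

theorem bb_ac (w : X.D.W) (x y : V6) : bb (ac X w x) (ac X w y) = bb x y := by
  rw [← bb_eq, ← bb_eq, ← co_eq, ← co_eq, dot_co, dot_co]
  exact H92.NE.bl_rep hpE6 sl6.1 w y x

theorem wm_c6 (w : X.D.W) (b : V6) : wm X w *ᵥ c6 b = c6 (ac X w b) := funext fun j => by
  rw [← Ex.sr_dot j (wm X w *ᵥ c6 b), dot_wm, bb_eq, ← bb_ac X w, ac_inv, ← bb_eq, Ex.sr_dot]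

theorem wm_cl (w : X.D.W) (v : V6) : ∃ b, wm X w *ᵥ v = v + c6 b :=
  (exists_cl X.D v w).imp fun b h => h.trans (congrArg _ (cl_eq X b))

theorem ac_rf {a : V6} (ha : X.D.Rt a) (x : V6) : ac X (X.D.rf a) x = x - bb x a • a := by
  have h1 := X.D.pair_cor ha x
  rw [cor_eq X sl6 ha, co_eq] at h1
  exact (X.D.act_rf ha x).trans (by rw [← h1, ← bb_eq]; rfl)

theorem Cn.ac {x : V6} (h : Cn x) (w : X.D.W) : ∃ y, ac X w x = x + (3 : ℤ) • y := by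
  choose v hv using h
  obtain ⟨b, hb⟩ := wm_cl X w v
  refine ⟨b, c6_inj ?_⟩
  rw [← wm_c6, c6_add, c6_smul, show c6 x = (3 : ℤ) • v from funext hv, mulVec_smul, hb, smul_add]

/-- elements of order nine -/
theorem nine {w : X.D.W} {b c : V6} (h : (-2 : ℤ) • wm X w *ᵥ c6 b = c6 b + (9 : ℤ) • c6 c) :
    3 ∣ bb b b ∧ (Cn b → ∀ i, 3 ∣ b i) := by
  rw [wm_c6, ← c6_smul, ← c6_smul, ← c6_add] at h
  have h1 := bb_sq 1 9 b c
  have h2 := bb_sq (-2) 0 (ac X w b) b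
  rw [zero_smul, add_zero, bb_ac, c6_inj h] at h2
  rw [one_smul, h2] at h1
  refine ⟨by omega, fun h3 => h3.tri ?_⟩
  have := h3.dvd c
  omega

/-- isolated elements -/
def Iso (u : V6) : Prop := ∃ w, ∀ x, 3 ∣ ac X w x ⬝ᵥ u ↔ 3 ∣ x 3

theorem iso_or (u : V6) : Iso X u ∨ Lv X.D 3 u :=
  (Ex.kac_one hpE6 Nat.prime_three Ex.bad_E6 1 u).symm.imp id (Ex.lv_of X)

theorem sing {b : V6} (h : 3 ∣ bb b b) : Cn b ∨ Iso X (c6 b) := by
  obtain ⟨w, c, c0, d, K, h1⟩ : ∃ (w : X.D.W) (c : Fin 6 → ℕ) (c0 : ℕ) (d : V6), H931.KC.Kac chevE6 6 3 c c0 ∧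
      c6 b = wm X w *ᵥ (fun i => (c i : ℤ)) + (3 : ℤ) • d := alc X three_pos (c6 b)
  obtain ⟨a0, a1, a2, a3, a4, a5, y, hy⟩ := exists_up (ac X w⁻¹ b)
  have h2 : c6 (ac X w⁻¹ b) = (fun i => (c i : ℤ)) + (3 : ℤ) • wm X w⁻¹ *ᵥ d := by
    have h3 := wm_inv X w⁻¹ fun i => (c i : ℤ)
    rw [inv_inv] at h3
    rw [← wm_c6, h1, mulVec_add, mulVec_smul, h3]
  have h3 : ∀ i, c6 (up a0 a1 a2 a3 a4 a5) i % 3 ≤ c i := fun i => by
    have h4 := congrFun h2 i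
    rw [hy, c6_add, c6_smul] at h4
    simp only [Pi.add_apply, Pi.smul_apply, smul_eq_mul] at h4
    omega
  have h4 := K.sum
  rw [hr_eq, Fin.sum_univ_six] at h4
  have h5 : (c0 : ℤ) + (1 * c 0 + 2 * c 1 + 2 * c 2 + 3 * c 3 + 2 * c 4 + 1 * c 5) = 3 := h4
  have h6 := bb_add3 (up a0 a1 a2 a3 a4 a5) y
  rw [← hy, bb_ac] at h6
  refine (fc_iso a0 a1 a2 a3 a4 a5 (by omega) (by
    linarith [h3 0, h3 1, h3 2, h3 3, h3 4, h3 5, Int.natCast_nonneg c0])).imp (fun h7 => ?_) fun h7 => ⟨w, fun x => ?_⟩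
  · have h8 := h7.add3 y
    rw [← hy] at h8
    obtain ⟨z, hz⟩ := h8.ac X w
    rw [ac_inv] at hz
    exact hz ▸ h8.add3 z
  · rw [bb_eq, ← bb_ac X w⁻¹, inv_ac, ← bb_eq, hy, c6_add, c6_smul, dotProduct_add, dotProduct_smul]
    refine (dvd_add_left (dvd_mul_right _ _)).trans (dvd_iff_dvd_of_dvd_sub ?_)
    rw [show x 3 = x ⬝ᵥ ![0, 0, 0, 1, 0, 0] by simp [dotProduct, Fin.sum_univ_six], ← dotProduct_sub]
    exact Finset.dvd_sum fun i _ => (h7 i).mul_left _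

/-- the elements which stabilise the components -/
def HH : Subgroup X.D.W where
  carrier := {w | ∀ j, ∃ σ : Equiv.Perm (Fin 3), ∀ i, ac X w (EE j i) = EE j (σ i)}
  one_mem' := fun _ => ⟨1, fun _ => congrFun (congrArg _ (map_one (rep X.D.cs X.D.h))) _⟩
  mul_mem' := fun {v w} hv hw j =>
    let ⟨σ, h1⟩ := hv j
    let ⟨τ, h2⟩ := hw j
    ⟨σ * τ, fun i => by rw [ac_mul, h2, h1]; rfl⟩
  inv_mem' := fun {w} hw j =>
    let ⟨σ, h1⟩ := hw j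
    ⟨σ⁻¹, fun i => by
      have := inv_ac X w (EE j (σ⁻¹ i))
      rwa [h1, show σ (σ⁻¹ i) = i from σ.apply_symm_apply i] at this⟩

theorem rf_mem {a : V6} (ha : X.D.Rt a) (h : 3 ∣ a 3) : X.D.rf a ∈ HH X := by
  intro j
  obtain ⟨s, t, h1⟩ := forall_rt X (Q := fun a => 3 ∣ a 3 → ∀ j, ∃ s t : Fin 3, ∀ i,
    EE j i - bb (EE j i) a • a = EE j (Equiv.swap s t i)) fc_rf a ha h j
  exact ⟨_, fun i => (ac_rf X ha _).trans (h1 i)⟩

theorem pow_HH {w : X.D.W} (hw : w ∈ HH X) {c : Fin 6 → kˣ} (h : mon ((-2 : ℤ) • wm X w) c = c) : c ^ 81 = 1 := by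
  have h1 : ∀ j i, chr (EE j i) c ^ 9 = 1 := fun j i => by
    obtain ⟨σ, hσ⟩ := (HH X).inv_mem hw j
    have h2 : ∀ i, chr (EE j i) c = chr (EE j (σ i)) c ^ (-2 : ℤ) := fun i => by
      conv_lhs => rw [← h, mon_zsmul, map_zpow, chr_mon]
      exact congrArg (fun v => chr v c ^ (-2 : ℤ)) ((X.D.wt_act' w (EE j i)).symm.trans (hσ i))
    rcases perm3 σ i with h3 | h3
    · have h4 := h2 i
      rw [h2 (σ i), h3, ← _root_.zpow_mul] at h4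
      calc chr (EE j i) c ^ 9 = (chr (EE j i) c ^ ((-2 : ℤ) * -2) * (chr (EE j i) c)⁻¹) ^ 3 := by group
        _ = 1 := by rw [← h4, mul_inv_cancel, one_pow]
    · have h4 := h2 i
      rw [h2 (σ i), h2 (σ (σ i)), h3, ← _root_.zpow_mul, ← _root_.zpow_mul] at h4
      calc chr (EE j i) c ^ 9 = (chr (EE j i) c ^ ((-2 : ℤ) * (-2 * -2)) * (chr (EE j i) c)⁻¹)⁻¹ := by group
        _ = 1 := by rw [← h4, mul_inv_cancel, inv_one]
  let K : AddSubgroup V6 :=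
    { carrier := {x | chr x c ^ 9 = 1}
      zero_mem' := by rw [Set.mem_ofPred_eq, chr_zero, one_pow]
      add_mem' := fun {x y} hx hy => by rw [Set.mem_ofPred_eq, chr_add, mul_pow, hx, hy, mul_one]
      neg_mem' := fun {x} hx => by rw [Set.mem_ofPred_eq, chr_neg, inv_pow, hx, inv_one] }
  have h2 : ∀ i : Fin 6, ∃ m : Fin 3 → Fin 2 → ℤ, (9 : ℕ) • (Pi.single i 1 : V6) =
      ∑ j, (m j 0 • EE j 0 + m j 1 • EE j 1) := fun i => by
    fin_cases i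
    · exact ⟨![![3, -3], ![0, 0], ![0, 0]], by decide⟩
    · exact ⟨![![0, 0], ![0, 0], ![3, -3]], by decide⟩
    · exact ⟨![![3, 6], ![0, 0], ![0, 0]], by decide⟩
    · exact ⟨![![-3, -3], ![-3, 0], ![-3, 0]], by decide⟩
    · exact ⟨![![0, 0], ![3, -3], ![0, 0]], by decide⟩
    · exact ⟨![![0, 0], ![3, 6], ![0, 0]], by decide⟩
  funext i
  obtain ⟨m, hm⟩ := h2 i
  have h3 : (9 : ℕ) • (Pi.single i 1 : V6) ∈ K :=
    hm ▸ sum_mem fun j _ => add_mem (K.zsmul_mem (h1 j 0) _) (K.zsmul_mem (h1 j 1) _)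
  have h4 : chr ((9 : ℕ) • (Pi.single i 1 : V6)) c ^ 9 = 1 := h3
  rwa [chr_nsmul, chr_single, ← pow_mul] at h4

/-- the tori of the centraliser of an isolated element -/
theorem Iso.pow {b b' : V6} (h : Iso X (c6 b)) {w : X.D.W} (h1 : (-2 : ℤ) • wm X w *ᵥ c6 b = c6 b + (3 : ℤ) • c6 b')
    {c : Fin 6 → kˣ} (h2 : mon ((-2 : ℤ) • wm X w) c = c) : c ^ 81 = 1 := by
  obtain ⟨v, hv⟩ := h
  have e : wm X v⁻¹ * wm X v = 1 := (wm_mul X _ _).symm.trans ((congrArg _ (inv_mul_cancel v)).trans X.D.Wm_one)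
  have e' : wm X v * wm X v⁻¹ = 1 := (wm_mul X _ _).symm.trans ((congrArg _ (mul_inv_cancel v)).trans X.D.Wm_one)
  have h3 : ac X w b = b + (3 : ℤ) • (b' + ac X w b) := by
    rw [wm_c6, ← c6_smul, ← c6_smul, ← c6_add] at h1
    rw [smul_add, ← add_assoc, ← c6_inj h1, ← add_smul]
    exact (one_smul _ _).symm
  have h4 : v⁻¹ * w * v ∈ HH X := stab_vec X.D three_pos (v := c6 (ac X v⁻¹ b)) (β := ac X v⁻¹ (b' + ac X w b))
    ((wm_c6 X _ _).trans (by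
      rw [ac_mul, ac_inv, ac_mul, h3, ac_add, ac_smul, c6_add, c6_smul, ← h3]
      exact congrArg (fun z => _ + (3 : ℤ) • z) (cl_eq X _).symm))
    fun (a : V6) ha h5 => rf_mem X ha ((hv a).1 (by
      rw [bb_eq, ← bb_ac X v⁻¹, inv_ac X v a, ← bb_eq]
      exact h5))
  have h5 := pow_HH X h4 (c := mon (wm X v⁻¹) c) (by
    rw [← mon_mul, wm_mul, wm_mul, smul_mul_assoc, mul_assoc, e', mul_one, ← mul_smul_comm, mon_mul, h2])
  rw [← mon_one c, ← e', mon_mul, ← map_pow, h5, map_one]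

/-- an element of root type is not conjugate to a central multiple -/
theorem root {w : X.D.W} {b z b' : V6} (h : wm X w *ᵥ c6 b = c6 b + c6 z + (3 : ℤ) • c6 b') (hz : Cn z)
    (h2 : 3 ∣ bb b b - 2) (i : Fin 6) : 3 ∣ z i := by
  rw [wm_c6, ← c6_smul, ← c6_add, ← c6_add] at h
  obtain ⟨a0, a1, a2, a3, a4, a5, y, hy⟩ := exists_up b
  have h3 := bb_add3 (up a0 a1 a2 a3 a4 a5) y
  rw [← hy] at h3
  obtain ⟨s, hs⟩ := fc_root a0 a1 a2 a3 a4 a5 (by omega)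
  have h4 := hs.add3 y
  rw [sub_add_eq_add_sub, ← hy] at h4
  obtain ⟨x, hx⟩ := h4.ac X w
  obtain ⟨t, ht, h5⟩ := (X.rt_iff (ac X w (vec chevE6 6 s))).1 ((rt_act (X := X.D) w).2 (rt_vec X s))
  have h6 := ac_add X w (b - vec chevE6 6 s) (vec chevE6 6 s)
  rw [sub_add_cancel, c6_inj h, hx, ← h5] at h6
  have h7 : vec chevE6 6 t - vec chevE6 6 s = z + (3 : ℤ) • (b' - x) := by
    rw [smul_sub]
    linear_combination (exp := 1) -h6
  have h8 := fc_inj ⟨t, ht⟩ s (h7 ▸ hz.add3 _)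
  rw [← h8, sub_self] at h7
  have h9 := congrFun h7 i
  simp only [Pi.add_apply, Pi.smul_apply, smul_eq_mul, Pi.zero_apply] at h9
  omega

end Cfsg.Agent.KM.Xc.E6
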