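import Cfsg.Agent.KM.Xc.E6G
import Cfsg.Agent.KM.Xc.E6L
import Cfsg.Agent.KM.Sc.E3
import Cfsg.Agent.H371.HT.Three
import Cfsg.Agent.KZ.DatX.Weyl

/-!
# KM, exceptional covers: `²E₆(2)` at the prime `3` (helper33)

`HasP` : the simply connected cover with the explicit matrix of the isogeny; `row_2e62`.
-/

set_option autoImplicit false
set_option linter.unusedSectionVars false
set_option linter.unusedVariables false

namespace Cfsg.Agent.KM.Xc

open Cfsg Cfsg.Lie Cfsg.Lie.ChevalleyDatum Cfsg.Agent.DL Cfsg.Agent.DL.Ex Cfsg.Agent.LangThm Matrix Cfsg.Agent.TwoF.DC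
  Cfsg.Agent.KZ.DatX Cfsg.Agent.Nodes.RGDChev Cfsg.Agent.KFacts.RgdChevCoord Cfsg.Agent.TwoF.DC.TE
  Cfsg.Agent.ChevalleyStructure Cfsg.Agent.ChevalleyStructure.CoxeterGeomTypes Cfsg.Agent.H45.UniE
  Cfsg.Agent.BpExc.TowChev Cfsg.Agent.H129.TorusChar Cfsg.Agent.ChevalleyStructure.NPerm Cfsg.Agent.KM.Sc Cfsg.Agent.BpExc
open Cfsg.Agent.H405.UE (PR)
open Cfsg.Agent.ChevalleyStructure.StTheta (theta)
open Cfsg.Agent.H129.StCover (stMap ker_theta)

section Has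

variable {C C' : ChevalleyDatum} {n n' : ℕ} {M : CoxeterMatrix (Fin n)} {M' : CoxeterMatrix (Fin n')}

/-- an adjoint frame with a simply connected cover; the matrix of the isogeny is the Cartan matrix -/
def HasP (hp : IsType C n M) (r : ℕ) [Fact r.Prime] (Mx : Matrix (Fin n) (Fin n) ℤ) (z : ℕ) (S : Type) [Group S] : Prop :=
  ∃ (k : Type) (_ : Field k) (_ : CharP k r) (_ : IsAlgClosed k) (X : XF hp r k Mx) (Y : Type) (_ : Group Y) (N : Type)
    (_ : Fintype N) (_ : DecidableEq N) (ρ : Y →* GL N k) (F : MulAut Y) (X' : Datum r ρ F ⊤) (θ : Y →* ↥(C.group k))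
    (s : KM.Sc X' S) (I : Isog X' X.D θ z) (e : Fin n ≃ X'.R), (∀ u, I.P *ᵥ u = Tor.co C n (u ∘ e)) ∧
      θ.ker = Subgroup.center Y ∧ ∀ h, s.π h = 1 ↔ θ h = 1

variable {p : ℕ} [Fact p.Prime] {k : Type} [Field k] [IsAlgClosed k] [CharP k p]
  {R : RDat p (Fin n) (PR C) k (C.SteinbergGroup k)} (E : StE R) (hp : IsType C n M)
  (P : Tws R) {π : Equiv.Perm (Fin n)} {x : Fin n → ℕ}

include E in
theorem hasP (hC : C ∈ [chevG2, chevF4, chevE6, chevE7, chevE8]) {z : ℕ} (hz : 0 < z)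
    {B : Fin n → Fin n → ℤ} (hB : InvC C n z B) {L : Lv C C' n n'} {hp' : IsType C' n' M'}
    {j : C.SteinbergGroup k →* ↥(C'.group k)} (U : Up L hp' j) (hj : Function.Injective j) (hF : R.Fa)
    (hP : P.Fr = stMap C (frobenius k p)) {Mx : Matrix (Fin n) (Fin n) ℤ} (X : XF hp p k Mx) (G : Gd hp p X.F π x)
    (h1 : ∀ i, P.gι P.σ i = π i) (h2 : ∀ i, x i = P.f) {S : Type} [Group S] {ι : S →* ↥(C.group k)}
    {d : ℕ} (O : Over X.F ⊤ (TT C k) ι d) (hS : IsSimpleGroup S) (hn : ¬ IsMulCommutative S)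
    (hπ : ∃ π : P.TT →* S, Function.Surjective π ∧ π.ker ≤ Subgroup.center P.TT) {A : Type} [CommGroup A] {a : ℕ}
    (hA : HasSchurMultiplier S A) (h3 : Nat.card A ∣ d * p ^ a) (h4 : 0 < d) (h5 : d ≤ Nat.card P.Zc) :
    HasP hp p Mx z S := by
  obtain ⟨π₀, k1, k2⟩ := hπ
  obtain ⟨F, X', e, ⟨s⟩, k3, k4, k5, k6⟩ := Dat.boxDat2 p _ _ k _ R P hF (lf_of_locFin X.hk) _ ((C'.group k).subtype.comp j)
    ((C'.group k).subtype_injective.comp hj) (fun g => by rw [hP]; exact StE.fr U g) (E.poly hp U X.hk) (E.diag hp U) S hS hn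
    π₀ k1 k2 A d a hA h3 h4 h5
  obtain ⟨I⟩ := E.isog hp hC hz hB X X' e (fun g => by rw [k3]; exact E.comm hp P G h1 h2 g) k4 k5 k6
  obtain ⟨s, hs⟩ := I.exists_sc (ker_theta hp.inList).le s O
  refine ⟨k, _, _, _, X, _, _, _, _, _, _, F, X', _, s, I, e, fun u => ?_, ker_theta hp.inList,
    fun h => by rw [← hs, map_eq_one_iff _ O.inj]⟩
  have : Infinite k := inferInstance
  refine coch_inj (k := k) fun c => X.D.τ_inj ((I.tau_coch u c).symm.trans ?_)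
  rw [k4, E.kappa hp (f := id) (theta_sth hp)]
  refine congrArg (Ex.tau hp) ((chr_coch' (cM C n id) (u ∘ e) c).trans (congrArg (coch · c) (funext fun i => ?_)))
  exact Finset.sum_congr (s₁ := Finset.univ) rfl fun j _ => mul_comm (cartanOf C n j i) (u (e j))

end Has

theorem hasP_2E6 {p : ℕ} [hp : Fact p.Prime] {F : Type} [Field F] [Fintype F] [CharP F p] {e : ℕ}
    (hK : Fintype.card F = (p ^ e) ^ 2) : HasP hpE6 p ((p : ℤ) ^ e • P6) 3 ↥(twistedE6 F (p ^ e)) := by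
  have := charP_closure p F
  have he : 0 < e := by
    have h := pos_of_card (hK.trans (pow_mul _ _ _).symm)
    omega
  have hk := locFin_closure F
  let k := AlgebraicClosure F
  let P := tw6 p k e he (-1)
  have hc := fa_of_faith (comb_E6 P car6 tw6_gι).faith 0
  have hq : IsPrimePow (p ^ e) := isPrimePow_pow he
  have h1 := S1070.result hq hK
  obtain ⟨A, _, a, h2, h3⟩ : ∃ (A : Type) (_ : CommGroup A) (a : ℕ), HasSchurMultiplier ↥(twistedE6 F (p ^ e)) A ∧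
      Nat.card A ∣ Nat.gcd 3 (p ^ e + 1) * p ^ a := by
    by_cases h2 : p ^ e = 2
    · obtain rfl : p = 2 := (Nat.prime_dvd_prime_iff_eq hp.out Nat.prime_two).mp (h2 ▸ dvd_pow_self p he.ne')
      rw [h2] at hK ⊢
      exact ⟨_, _, 2, S2109.result hK, by simp⟩
    · exact cyc p (S2108.result hq hK h2)
  let G := (gd6 p k).mul (Gd.frob hpE6 p k e)
  refine hasP (stE6 p k) hpE6 P (by simp) three_pos invC_E6 (up6 k) (inj6 k) hc rfl
    (xfG hk (amb_of_pow hk two_pos (by omega) (sigE6_sq (m := e))) G (pm_frob pi6)) G (fun _ => rfl) (fun _ => rfl)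
    (over_2E6 (algebraMap F _) he hK) h1.1 h1.2 (pi_tw he hc (algebraMap F k) hq hK) h2 h3
    (Nat.gcd_pos_of_pos_left _ three_pos) ?_
  refine le_card_Zc P Nat.prime_three ![1, 0, 2, 0, 1, 2] 0 rfl (fun i => ?_) fun hm =>
    ⟨not_dvd_of hp.out Nat.prime_three he (Or.inr hm), fun i => ?_⟩
  · change _ ∣ ∑ j, _ * ChevalleyStructure.CoxeterGeomTypes.cartanOf chevE6 6 j i
    revert i; decide +kernel
  · change ![1, 0, 2, 0, 1, 2] (H129.StTw.nod i) % 3 = ![1, 0, 2, 0, 1, 2] i * p ^ e % 3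
    fin_cases i <;> simp [H129.StTw.nod] <;> omega

open E6 in
theorem pk6 {k : Type} [Field k] [Fact (Nat.Prime 2)] [CharP k 2] [IsAlgClosed k] (X : XF hpE6 2 k (((2 : ℕ) : ℤ) ^ 1 • P6))
    {Y : Type} [Group Y] {N : Type} [Fintype N] [DecidableEq N] {ρ : Y →* GL N k} {F : MulAut Y} {G : Subgroup Y}
    {X' : Datum 2 ρ F G} {θ : Y →* ↥(chevE6.group k)} (I : Isog X' X.D θ 3) (e : Fin 6 ≃ X'.R)
    (hP : ∀ u, I.P *ᵥ u = c6 (u ∘ e)) (h1 : TO.X.Cn.Pi1 X' 1) :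
    Pk I (MonoidHom.mrange X.D.WmHom) (fun u => bb (u ∘ e) (u ∘ e)) (fun u => Iso X (c6 (u ∘ e))) (r0 ∘ e.symm) := by
  have ce : ∀ u, Ce I u → Cn (u ∘ e) := fun u h r => (h r).trans (congrFun (hP u) r).dvd
  have tr : ∀ u : X'.R → ℤ, (∀ i, 3 ∣ (u ∘ e) i) → ∀ r, 3 ∣ u r := fun u h r => e.apply_symm_apply r ▸ h (e.symm r)
  refine ⟨h1, Ex.nl_of X Nat.prime_three Ex.bad_E6, fun w => ⟨w, rfl⟩, ?_, ?_, fun u h => ?_, fun u => hP u ▸ iso_or X _, ?_, ?_,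
    fun u v w => three (u ∘ e) (v ∘ e) (w ∘ e), fun u v => two (u ∘ e) (v ∘ e), fun u h => ?_⟩
  · obtain ⟨w, hw⟩ := X.exists_neg_E6
    exact ⟨_, ⟨w, rfl⟩, (show ((2 : ℕ) : ℤ) ^ 1 • P6 = (-2 : ℤ) • -P6 from (neg_smul_neg _ _).symm).trans
      (congrArg (fun A : Matrix (Fin 6) (Fin 6) ℤ => (-2 : ℤ) • A) hw.symm)⟩
  · rintro _ ⟨w, rfl⟩ u u' h
    rw [hP, hP] at h
    exact (nine X h).imp_right fun h2 h3 => tr u (h2 (ce u h3))
  · exact (sing X h).imp_left fun h2 r => (h2 r).trans (congrFun (hP u) r).symm.dvd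
  · rintro u h _ ⟨w, rfl⟩ u' h2 c h3
    rw [hP, hP] at h2
    exact h.pow X h2 h3
  · rintro _ ⟨w, rfl⟩ u z u' h h2 h3
    rw [hP, hP, hP] at h
    exact tr z (root X h (ce z h2) h3)
  · obtain ⟨y, hy⟩ := (ce u h).eq
    exact ⟨_, y ∘ e.symm, funext fun r => (congrArg u (e.apply_symm_apply r)).symm.trans (congrFun hy (e.symm r))⟩

theorem noA_2e62 (K : Type) [Field K] [Fintype K] (h : Fintype.card K = 2 ^ 2) : Sp.NoA 3 3 ↥(twistedE6 K 2) := by
  have : Fact (Nat.Prime 2) := ⟨Nat.prime_two⟩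
  have : CharP K 2 := charP_of_card_eq_prime_pow h
  obtain ⟨k, _, _, _, X, Y, _, N, _, _, ρ, F, X', θ, s, I, e, h1, h2, h3⟩ := hasP_2E6 (p := 2) (e := 1) h
  exact fun D hD h0 => H371.HT.not_ab_twE6 Nat.prime_two.isPrimePow h (by rw [h]; norm_num)
    ((pk6 X I e (fun u => (h1 u).trans (E6.co_eq _)) s.pi1).abS s.surj h3 h2.le hD h0)

/-- **`²E₆(2)`** -/
theorem row_2e62 (K : Type) [Field K] [Fintype K] (h : Fintype.card K = 2 ^ 2) : Row 3 ↥(twistedE6 K 2) :=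
  have : Fact (Nat.Prime 3) := ⟨Nat.prime_three⟩
  Sp.row_of_noA (noA_2e62 K h)

end Cfsg.Agent.KM.Xc
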