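import Cfsg.Agent.KM.Tor.K0

/-!
# KM, exceptional covers: the lattice `E₆` modulo three, finite checks (helper33)
-/

set_option autoImplicit false

namespace Cfsg.Agent.KM.Xc.E6

open Cfsg Cfsg.Lie Matrix Cfsg.Agent.Nodes.RGDChev Cfsg.Agent.KM.Tor Cfsg.Agent.ChevalleyStructure.CoxeterGeomTypes
open Cfsg.Agent.H931.KC (hr)

/-- the lattice -/
abbrev V6 : Type := Fin 6 → ℤ

/-- the Cartan matrix applied to `b` -/
def c6 (b : V6) : V6 :=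
  ![2 * b 0 - b 2, 2 * b 1 - b 3, 2 * b 2 - b 0 - b 3, 2 * b 3 - b 1 - b 2 - b 4, 2 * b 4 - b 3 - b 5, 2 * b 5 - b 4]

theorem car_eq : cartanOf chevE6 6 = ![![2, 0, -1, 0, 0, 0], ![0, 2, 0, -1, 0, 0], ![-1, 0, 2, -1, 0, 0],
    ![0, -1, -1, 2, -1, 0], ![0, 0, 0, -1, 2, -1], ![0, 0, 0, 0, -1, 2]] := by decide +kernel

theorem co_eq (b : V6) : co chevE6 6 b = c6 b := funext fun j => by
  rw [co, car_eq, Fin.sum_univ_six]
  fin_cases j <;> simp [c6] <;> ring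

/-- the bilinear form -/
def bb (x y : V6) : ℤ := x 0 * (2 * y 0 - y 2) + x 1 * (2 * y 1 - y 3) + x 2 * (2 * y 2 - y 0 - y 3) +
  x 3 * (2 * y 3 - y 1 - y 2 - y 4) + x 4 * (2 * y 4 - y 3 - y 5) + x 5 * (2 * y 5 - y 4)

theorem bb_eq (x y : V6) : x ⬝ᵥ c6 y = bb x y := by
  rw [dotProduct, Fin.sum_univ_six]
  rfl

/-- the radical modulo three -/
def Cn (b : V6) : Prop := ∀ i, 3 ∣ c6 b i

instance Cn.dec : DecidablePred Cn := fun _ => by unfold Cn; infer_instance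

/-- a vector with small entries -/
def up (a b c d e f : Fin 3) : V6 := ![(a : ℕ), (b : ℕ), (c : ℕ), (d : ℕ), (e : ℕ), (f : ℕ)]

theorem exists_up (x : V6) : ∃ a b c d e f y, x = up a b c d e f + (3 : ℤ) • y := by
  have h : ∀ z : ℤ, ∃ a : Fin 3, z = ((a : ℕ) : ℤ) + 3 * (z / 3) := fun z =>
    ⟨⟨(z % 3).toNat, by omega⟩, by simp only; omega⟩
  choose a ha using h
  refine ⟨a (x 0), a (x 1), a (x 2), a (x 3), a (x 4), a (x 5), fun i => x i / 3, funext fun i => ?_⟩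
  fin_cases i <;> exact ha _

theorem fc_iso : ∀ a b c d e f : Fin 3, 3 ∣ bb (up a b c d e f) (up a b c d e f) →
    c6 (up a b c d e f) 0 % 3 + 2 * (c6 (up a b c d e f) 1 % 3) + 2 * (c6 (up a b c d e f) 2 % 3) +
      3 * (c6 (up a b c d e f) 3 % 3) + 2 * (c6 (up a b c d e f) 4 % 3) + c6 (up a b c d e f) 5 % 3 ≤ 3 →
    Cn (up a b c d e f) ∨ ∀ i, 3 ∣ c6 (up a b c d e f) i - ![0, 0, 0, 1, 0, 0] i := by decide +kernel

theorem fc_root : ∀ a b c d e f : Fin 3, 3 ∣ bb (up a b c d e f) (up a b c d e f) - 2 →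
    ∃ s : Fin 72, Cn (up a b c d e f - vec chevE6 6 s) := by decide +kernel

theorem fc_inj : ∀ s t : Fin 72, Cn (vec chevE6 6 s - vec chevE6 6 t) → s = t := by decide +kernel

/-- three times the weights of the components of `A₂³` -/
def EE : Fin 3 → Fin 3 → V6 :=
  ![![![2, 0, 1, 0, 0, 0], ![-1, 0, 1, 0, 0, 0], ![-1, 0, -2, 0, 0, 0]],
    ![![0, 0, 0, 0, 2, 1], ![0, 0, 0, 0, -1, 1], ![0, 0, 0, 0, -1, -2]],
    ![![-1, 0, -2, -3, -2, -1], ![-1, -3, -2, -3, -2, -1], ![2, 3, 4, 6, 4, 2]]]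

theorem fc_rf : ∀ s : Fin 72, 3 ∣ vec chevE6 6 s 3 → ∀ j, ∃ a b : Fin 3, ∀ i,
    EE j i - bb (EE j i) (vec chevE6 6 s) • vec chevE6 6 s = EE j (Equiv.swap a b i) := by decide +kernel

theorem hr_eq : hr chevE6 6 = ![1, 2, 2, 3, 2, 1] := by decide +kernel

theorem sl6 : SL chevE6 6 := by decide +kernel

theorem fc_three : ∀ a b c d e f : ZMod 3, ∃ i j k : Fin 3, ¬ (i = 0 ∧ j = 0 ∧ k = 0) ∧
    ((i : ℕ) : ZMod 3) ^ 2 * a + ((j : ℕ) : ZMod 3) ^ 2 * b + ((k : ℕ) : ZMod 3) ^ 2 * c +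
      2 * ((i : ℕ) * (j : ℕ) * d + (i : ℕ) * (k : ℕ) * e + (j : ℕ) * (k : ℕ) * f) = 0 := by decide +kernel

theorem perm3 : ∀ (σ : Equiv.Perm (Fin 3)) (i : Fin 3), σ (σ i) = i ∨ σ (σ (σ i)) = i := by decide +kernel

end Cfsg.Agent.KM.Xc.E6
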