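import Cfsg.Agent.KM.Xc.Ab
import Cfsg.Agent.KM.Tor.K0

/-!
# KM, exceptional covers: `²E₆(2)` at the prime `3`, the group theory (helper33)

`Pk` : the lattice facts for a simply connected datum over an adjoint datum; `Pk.abS`.
-/

set_option autoImplicit false
set_option linter.unusedSectionVars false

namespace Cfsg.Agent.KM.Xc

open Cfsg Cfsg.Agent.DL Cfsg.Agent.DL.Asm Subgroup Cfsg.Agent.KM.Sp Cfsg.Agent.Nodes.Reps Matrix Cfsg.Agent.KM.Tor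
  Cfsg.Agent.BHZ.Spor
open Cfsg.Agent.KM.Sc (Isog)
open Cfsg.Agent.TO.X.Cn (Pi1)

variable {k : Type} [Field k] [Fact (Nat.Prime 2)] [CharP k 2] [IsAlgClosed k]
  {Y' : Type} [Group Y'] {N' : Type} [Fintype N'] [DecidableEq N'] {ρ' : Y' →* GL N' k} {F' : MulAut Y'}
  {G' : Subgroup Y'} {Y : Type} [Group Y] {N : Type} [Fintype N] [DecidableEq N] {ρ : Y →* GL N k} {F : MulAut Y}
  {G : Subgroup Y} {X' : Datum 2 ρ' F' G'} {X : Datum 2 ρ F G} {θ : Y' →* Y} (I : Isog X' X θ 3)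

/-- central modulo three -/
def Ce (u : X'.R → ℤ) : Prop := ∀ r, 3 ∣ (I.P *ᵥ u) r

/-- the lattice facts -/
structure Pk (W : Submonoid (Matrix X.R X.R ℤ)) (n : (X'.R → ℤ) → ℤ) (Is : (X'.R → ℤ) → Prop) (u₀ : X'.R → ℤ) : Prop where
  pi1 : Pi1 X' 1
  nl : Ex.NL X 3
  wm : ∀ w, X.Wm w ∈ W
  neg : ∃ M ∈ W, X.Mx = (-2 : ℤ) • M
  nine : ∀ M ∈ W, ∀ u u', (-2 : ℤ) • M *ᵥ I.P *ᵥ u = I.P *ᵥ u + (9 : ℤ) • I.P *ᵥ u' → 3 ∣ n u ∧ (Ce I u → ∀ r, 3 ∣ u r)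
  sing : ∀ u, 3 ∣ n u → Ce I u ∨ Is u
  lv : ∀ u, Is u ∨ Lv X 3 (I.P *ᵥ u)
  pow : ∀ u, Is u → ∀ M ∈ W, ∀ u', (-2 : ℤ) • M *ᵥ I.P *ᵥ u = I.P *ᵥ u + (3 : ℤ) • I.P *ᵥ u' →
    ∀ c : X.R → kˣ, mon ((-2 : ℤ) • M) c = c → c ^ 81 = 1
  root : ∀ M ∈ W, ∀ u z u', M *ᵥ I.P *ᵥ u = I.P *ᵥ u + I.P *ᵥ z + (3 : ℤ) • I.P *ᵥ u' → Ce I z → 3 ∣ n u - 2 →
    ∀ r, 3 ∣ z r
  three : ∀ u v w, ∃ i j m : Fin 3, ¬ (i = 0 ∧ j = 0 ∧ m = 0) ∧
    3 ∣ n (((i : ℕ) : ℤ) • u + ((j : ℕ) : ℤ) • v + ((m : ℕ) : ℤ) • w)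
  two : ∀ u v, (∀ i : ℕ, ¬ 3 ∣ n (u + (i : ℤ) • v) ∧ ¬ 3 ∣ n (u + (i : ℤ) • v) - 2) → 3 ∣ n v
  rad : ∀ u, Ce I u → ∃ (e : ℤ) (u' : X'.R → ℤ), u = e • u₀ + (3 : ℤ) • u'

theorem tau_eq (X : Datum 2 ρ F G) {u v : X.R → ℤ} {ζ : kˣ} :
    X.τ (coch u ζ) = X.τ (coch v ζ) ↔ ∃ x, u = v + (orderOf ζ : ℤ) • x := by
  rw [X.τ_inj.eq_iff]
  refine ⟨fun h => ?_, fun ⟨x, hx⟩ => by
    rw [hx, coch_add, coch_zsmul, zpow_natCast, pow_orderOf_eq_one, map_one, mul_one]⟩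
  choose x hx using fun j => (orderOf_dvd_iff_zpow_eq_one (x := ζ) (i := u j - v j)).2 (by
    rw [_root_.zpow_sub, show ζ ^ u j = ζ ^ v j from congrFun h j, mul_inv_cancel])
  exact ⟨x, funext fun j => sub_eq_iff_eq_add'.1 (hx j)⟩

theorem tau_one (X : Datum 2 ρ F G) {u : X.R → ℤ} {ζ : kˣ} : X.τ (coch u ζ) = 1 ↔ ∀ r, (orderOf ζ : ℤ) ∣ u r := by
  rw [← map_one X.τ, X.τ_inj.eq_iff, funext_iff]
  exact forall_congr' fun r => orderOf_dvd_iff_zpow_eq_one.symm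

theorem exists_coch (X : Datum 2 ρ F G) {ζ : kˣ} (h0 : orderOf ζ ≠ 0) {t : Y} (ht : t ∈ X.T) (h : t ^ orderOf ζ = 1) :
    ∃ u, t = X.τ (coch u ζ) := by
  obtain ⟨c, rfl⟩ := (X.mem_T t).1 ht
  have : NeZero (orderOf ζ) := ⟨h0⟩
  have hc : c ^ orderOf ζ = 1 := X.τ_inj (by rw [map_pow, h, map_one])
  choose x _ hx using fun i => (IsPrimitiveRoot.orderOf ζ).eq_pow_of_mem_rootsOfUnity (ξ := c i) (congrFun hc i)
  exact ⟨fun i => x i, congrArg _ (funext fun i => by rw [coch_apply, zpow_natCast, hx])⟩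

theorem tau_add (X : Datum 2 ρ F G) (u v : X.R → ℤ) (i : ℕ) (ζ : kˣ) :
    X.τ (coch (u + (i : ℤ) • v) ζ) = X.τ (coch u ζ) * X.τ (coch v ζ) ^ i := by
  rw [coch_add, coch_zsmul, zpow_natCast, map_pow, map_mul, map_pow]

theorem P_Mx (u : X'.R → ℤ) : I.P *ᵥ X'.Mx *ᵥ u = X.Mx *ᵥ I.P *ᵥ u :=
  have : Infinite k := inferInstance
  coch_inj (k := k) fun a => X.τ_inj (by
    rw [← I.tau_coch, ← mon_coch, ← X'.F_τ, I.comm, I.tau_coch, X.F_τ, mon_coch])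

theorem P_Wm {w' : X'.W} {m : Y'} (h : X'.Rp w' m) : ∃ w, ∀ u, I.P *ᵥ X'.Wm w' *ᵥ u = X.Wm w *ᵥ I.P *ᵥ u := by
  obtain ⟨w, hw⟩ := I.map_mem_NN ⟨w', h⟩
  have : Infinite k := inferInstance
  exact ⟨w, fun u => coch_inj (k := k) fun a => X.τ_inj (by
    rw [← I.tau_coch, ← mon_coch, ← X'.conj_τ h, ← mon_coch, ← X.conj_τ hw, map_mul, map_mul, map_inv, I.tau_coch])⟩

theorem ce_iff {ω : kˣ} (hω : orderOf ω = 3) (u : X'.R → ℤ) : θ (X'.τ (coch u ω)) = 1 ↔ Ce I u := by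
  rw [I.tau_coch, tau_one, hω]
  rfl

/-- the conjugate frames -/
noncomputable abbrev cjI {y : Y'} (hy : y ∈ G') (hN : y⁻¹ * F' y ∈ X'.NN) :
    Isog (X'.conj hy hN) (X.conj (I.mem y hy) (I.map_lang y ▸ I.map_mem_NN hN)) θ 3 := I.conj hy hN _ _

theorem lvs_of {l j : ℕ} (hl : l.Prime) {u : X'.R → ℤ} (h : Lv X ((l : ℤ) ^ j) (I.P *ᵥ u)) :
    Lvs X' (Rn X' ((l : ℤ) ^ j) u) := by
  obtain ⟨v, hv⟩ : Lvs X (Rn X ((l : ℤ) ^ j) (I.P *ᵥ u)) := by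
    obtain ⟨c, hc, v, hv⟩ := h
    rcases j with _ | j
    · exact ⟨0, fun a ha => ⟨fun _ => dotProduct_zero _, fun _ => ⟨ha, one_dvd _⟩⟩⟩
    · exact (lq_of (fun h => (Nat.prime_iff_prime_int.1 hl).not_unit (hc.isUnit_of_dvd' h (dvd_pow_self _ j.succ_ne_zero)))
        fun a ha => hv a ha.1 ha.2).lvs hl
  refine ⟨I.Q *ᵥ v, fun a' ha' => ?_⟩
  obtain ⟨a, ha, e⟩ := I.root a' ha'
  rw [Rn, Set.mem_ofPred_eq, e, ← dotProduct_mulVec, ← dotProduct_mulVec, mulVec_mulVec, I.PQ, smul_mulVec, one_mulVec,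
    dotProduct_smul, smul_eq_zero_iff_right (by norm_num), ← hv a ha]
  exact ⟨fun h => ⟨ha, h.2⟩, fun h => ⟨ha', h.2⟩⟩

variable {I} {W : Submonoid (Matrix X.R X.R ℤ)} {n : (X'.R → ℤ) → ℤ} {Is : (X'.R → ℤ) → Prop} {u₀ : X'.R → ℤ}
  (H : Pk I W n Is u₀) {ω : kˣ} (hω : orderOf ω = 3)
include H

theorem Pk.conj {y : Y'} (hy : y ∈ G') (hN : y⁻¹ * F' y ∈ X'.NN) : Pk (cjI I hy hN) W n Is u₀ where
  pi1 := H.pi1
  nl := H.nl
  wm w := TO.E6.conj_Wm X _ _ w ▸ H.wm w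
  neg :=
    let ⟨M, h1, h2⟩ := H.neg
    ⟨_, mul_mem (H.wm _) h1, (X.conj_Mx _ _).trans (by rw [h2, mul_smul_comm])⟩
  nine := H.nine
  sing := H.sing
  lv := H.lv
  pow := H.pow
  root := H.root
  three := H.three
  two := H.two
  rad := H.rad

theorem Pk.fix {u : X'.R → ℤ} {ζ : kˣ} (h : F' (X'.τ (coch u ζ)) = X'.τ (coch u ζ)) : ∃ M ∈ W, X.Mx = (-2 : ℤ) • M ∧
    ∃ u', (-2 : ℤ) • M *ᵥ I.P *ᵥ u = I.P *ᵥ u + (orderOf ζ : ℤ) • I.P *ᵥ u' := by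
  obtain ⟨M, h1, h2⟩ := H.neg
  rw [X'.F_τ, mon_coch, tau_eq] at h
  obtain ⟨x, hx⟩ := h
  exact ⟨M, h1, h2, x, by rw [← smul_mulVec, ← h2, ← P_Mx, hx, mulVec_add, mulVec_smul]⟩

include hω

theorem Pk.pow_eq {u : X'.R → ℤ} (h : F' (X'.τ (coch u ω)) = X'.τ (coch u ω)) (hI : Is u) {x : Y'} (h1 : x ∈ X'.T)
    (h2 : F' x = x) : x ^ 3 ^ 5 = 1 := by
  obtain ⟨M, a1, a2, u', a3⟩ := H.fix h
  obtain ⟨c, hc⟩ := (X.mem_T _).1 (I.map_mem_T h1)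
  rw [hω] at a3
  have h3 := H.pow u hI M a1 u' a3 c (X.τ_inj (by rw [← a2, ← X.F_τ, hc, ← I.comm, h2]))
  rw [show 3 ^ 5 = 81 * 3 from rfl, pow_mul]
  exact I.pow_eq_one (X'.T_le_G (pow_mem h1 _)) (by rw [map_pow, ← hc, ← map_pow, h3, map_one])

/-- isolated elements -/
theorem Pk.ns {u : X'.R → ℤ} (h : F' (X'.τ (coch u ω)) = X'.τ (coch u ω)) (hI : Is u) {x : Y'} (hx : x ∈ GF F' G')
    {s j : ℕ} (hs : s.Prime) (h2 : s ≠ 2) (h3 : s ≠ 3) (hj : x ^ s ^ j = 1)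
    (hc : x ∈ centralizer {X'.τ (coch u ω)}) : x = 1 := by
  have : Fact (Nat.Prime 3) := ⟨Nat.prime_three⟩
  have hT := Set.singleton_subset_iff.2 (X'.τ_mem (coch u ω))
  obtain ⟨y, hy, hN, h4, -⟩ := exists_torus X' (l := 3) hT (fun _ e => e ▸ h)
    (fun _ e => ⟨1, by rw [e, pow_one, ← map_pow, ← map_pow, ← hω, pow_orderOf_eq_one, map_one, map_one]⟩) hx hc
    (not_dvd_prime Nat.prime_two hs h2 hj) (not_dvd_prime Nat.prime_three hs h3 hj)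
  have h5 : (X'.conj (X'.cen_le_G _ hy) hN).τ (coch u ω) = X'.τ (coch u ω) :=
    mul_inv_eq_iff_eq_mul.2 (X'.cen_le_centralizer hT hy _ rfl).symm
  exact eq_one_of_reg (not_dvd_prime Nat.prime_three hs h3 hj)
    ((H.conj _ hN).pow_eq hω (by rw [h5]; exact h) hI h4 hx.2)

/-- elements of Levi type -/
theorem Pk.toral {u : X'.R → ℤ} (h1 : ¬ Ce I u) (h2 : ¬ Is u) {A : Set Y'} (hfin : A.Finite) (hG : A ⊆ GF F' G')
    (he : ∀ a ∈ A, a ^ 3 = 1) (hc : ∀ a ∈ A, ∀ b ∈ A, a * b = b * a) (hu : X'.τ (coch u ω) ∈ A) :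
    ∃ g ∈ G', ∀ a ∈ A, g⁻¹ * a * g ∈ X'.T := by
  obtain ⟨c, hc3, v, hv⟩ := (H.lv u).resolve_left h2
  have h3 : Gds X' 3 (X'.Sz {X'.τ (coch u ω)}) := fun j x hx => lvs_of I Nat.prime_three
    (H.nl j _ (c • I.P *ᵥ u + (3 : ℤ) • v) (fun e => h1 fun r => hc3.symm.dvd_of_dvd_mul_left
      ⟨-v r, by simpa [add_eq_zero_iff_eq_neg] using congrFun e r⟩) fun a ha h4 => hv a ha (by
        obtain ⟨a', ha', e⟩ := I.root' a ha
        rw [Sz_exp, hω] at hx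
        rw [dotProduct_mulVec, ← e] at h4 ⊢
        exact (hx ⟨ha', h4⟩).2))
  have hT := X'.τ_mem (coch u ω)
  have h4 : CC X' {X'.τ (coch u ω)} := fun y hy h => TO.X.Cn.mem_cen H.pi1 hT (he _ hu) (Nat.coprime_one_right 3) hy
    (mem_centralizer_singleton_iff.1 h)
  obtain ⟨g, h5, h6, -⟩ := ind H.pi1 Nat.prime_three (by norm_num) (Nat.coprime_one_right 3)
    (Set.singleton_subset_iff.2 hT) (Set.finite_singleton _) (h3.qc Nat.prime_three hT (j := 1) (he _ hu) le_rfl) h4 h3 hfin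
    (fun a ha => h4 a (hG ha).1 (mem_centralizer_singleton_iff.2 (hc a ha _ hu))) (fun a ha => ⟨1, he a ha⟩) hc
  exact ⟨g, X'.cen_le_G _ h5, h6⟩

/-- conjugate to a central multiple -/
theorem Pk.not_root {u z : X'.R → ℤ} (hz : Ce I z) (h1 : X'.τ (coch z ω) ≠ 1) {g : Y'} (hg : g ∈ G')
    (h : g * X'.τ (coch u ω) * g⁻¹ = X'.τ (coch u ω) * X'.τ (coch z ω)) : ¬ 3 ∣ n u - 2 := fun h2 => by
  obtain ⟨w', m, hm, h3⟩ := TO.E6.exists_rp_conj X' (ι := Unit) (s := fun _ => X'.τ (coch u ω))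
    (t := fun _ => X'.τ (coch u ω) * X'.τ (coch z ω)) (fun _ => X'.τ_mem _) (fun _ => mul_mem (X'.τ_mem _) (X'.τ_mem _)) hg
    fun _ => h
  have h4 := h3 ()
  rw [X'.conj_τ hm, mon_coch, ← map_mul, ← coch_add, tau_eq, hω] at h4
  obtain ⟨x, hx⟩ := h4
  obtain ⟨w, hw⟩ := P_Wm I hm
  exact h1 ((tau_one X').2 (hω ▸ H.root _ (H.wm w) u z x (by
    rw [← hw, hx, mulVec_add, mulVec_add, mulVec_smul]; rfl) hz h2))

omit H hω in
theorem exists_three {S : Type} [Group S] [Finite S] {D : Subgroup S} (h : 3 ^ 3 ∣ Nat.card D) (he : ∀ d ∈ D, d ^ 3 = 1) :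
    ∃ a ∈ D, ∃ b ∈ D, ∃ c ∈ D, ∀ i j m : Fin 3, a ^ (i : ℕ) * b ^ (j : ℕ) * c ^ (m : ℕ) = 1 → i = 0 ∧ j = 0 ∧ m = 0 := by
  have : Fact (Nat.Prime 3) := ⟨Nat.prime_three⟩
  have key : ∀ (A B : Subgroup S), A ≤ D → Nat.card B < Nat.card A →
      ∃ a ∈ A, ∀ i : Fin 3, a ^ (i : ℕ) ∈ B → i = 0 := fun A B hA hlt => by
    obtain ⟨a, ha, h1⟩ := SetLike.not_le_iff_exists.1 fun e : A ≤ B => absurd (card_le_of_le e) (not_le.2 hlt)
    refine ⟨a, ha, fun i hi => ?_⟩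
    fin_cases i
    · rfl
    · exact absurd (by simpa using hi) h1
    · refine absurd ?_ h1
      rw [← one_mul a, ← he a (hA ha), ← pow_succ]
      exact pow_mul a 2 2 ▸ pow_mem hi 2
  obtain ⟨B, hB⟩ := Sylow.exists_subgroup_card_pow_prime (G := D) 3 ((pow_dvd_pow 3 (show 2 ≤ 3 by norm_num)).trans h)
  obtain ⟨A, hA⟩ := Sylow.exists_subgroup_card_pow_prime (G := B) 3 (n := 1) (hB ▸ pow_dvd_pow 3 (by norm_num))
  have h1 : (A.map B.subtype).map D.subtype ≤ B.map D.subtype := map_mono (map_subtype_le _)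
  have h2 : B.map D.subtype ≤ D := map_subtype_le _
  have h3 := card_map_of_injective (K := B) (subtype_injective D)
  have h4 := (card_map_of_injective (K := A.map B.subtype) (subtype_injective D)).trans
    (card_map_of_injective (subtype_injective B))
  have h5 := Nat.le_of_dvd Nat.card_pos h
  obtain ⟨a, ha, ka⟩ := key _ ⊥ (h1.trans h2) (by rw [card_bot, h4, hA]; norm_num)
  obtain ⟨b, hb, kb⟩ := key _ ((A.map B.subtype).map D.subtype) h2 (by rw [h3, h4, hA, hB]; norm_num)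
  obtain ⟨c, hc, kc⟩ := key D (B.map D.subtype) le_rfl (by rw [h3, hB]; omega)
  refine ⟨a, h2 (h1 ha), b, h2 hb, c, hc, fun i j m e => ?_⟩
  obtain rfl := kc m (by
    rw [← inv_eq_of_mul_eq_one_right e]
    exact inv_mem (mul_mem (pow_mem (h1 ha) _) (pow_mem hb _)))
  rw [Fin.val_zero, pow_zero, mul_one] at e
  obtain rfl := kb j (by
    rw [← inv_eq_of_mul_eq_one_right e]
    exact inv_mem (pow_mem ha _))
  rw [Fin.val_zero, pow_zero, mul_one] at e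
  exact ⟨ka i e, rfl, rfl⟩

omit hω in
/-- **the main theorem** -/
theorem Pk.abS {S : Type} [Group S] {π : ↥(GF F' G') →* S} (hs : Function.Surjective π) (hk : ∀ h, π h = 1 ↔ θ h = 1)
    (hz : θ.ker ≤ center Y') {D : Subgroup S} (h : LocA 3 D) (h0 : 3 ^ 3 ∣ Nat.card D) : LV.AbS 3 S := by
  have : Fact (Nat.Prime 3) := ⟨Nat.prime_three⟩
  have := X'.amb.finite_GF G'
  have := Finite.of_surjective _ hs
  by_contra hA
  have hc : π.ker ≤ center _ := fun z h1 =>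
    mem_center_iff.2 fun g => Subtype.ext (mem_center_iff.1 (hz ((hk z).1 h1)) g)
  let c : Cv 2 F' G' S := ⟨GF F' G', le_rfl, fun _ h _ => h, π, hs, hc⟩
  obtain ⟨ζ, hζ⟩ := exists_prim 2 k (n := 9) (by norm_num)
  obtain ⟨ω, e0⟩ : ∃ ω, ω = ζ ^ 3 := ⟨_, rfl⟩
  have hω : orderOf ω = 3 := by rw [e0, orderOf_pow_of_dvd (by norm_num) (by rw [hζ]; norm_num), hζ]
  have w3 : ∀ (X'' : Datum 2 ρ' F' G') u, X''.τ (coch u ω) ^ 3 = 1 := fun X'' u => by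
    rw [← map_pow, ← map_pow, ← hω, pow_orderOf_eq_one, map_one, map_one]
  have nI : ∀ {y} (hy : y ∈ G') (hN : y⁻¹ * F' y ∈ X'.NN) {u} {x : GF F' G'}, π x ∈ D →
      (x : Y') = (X'.conj hy hN).τ (coch u ω) → ¬ Is u := fun hy hN u x hx e hI =>
    hA (c.key (X'.conj hy hN) (by norm_num) h (Z := {x}) (fun _ e' => e' ▸ e ▸ (X'.conj hy hN).τ_mem _)
      (fun _ e' => ⟨1, e' ▸ Subtype.ext (e ▸ w3 _ u : (x : Y') ^ 3 = 1)⟩) (fun _ e' => e' ▸ hx)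
      fun a ha s j h1 h2 h3 h4 h5 => (H.conj hy hN).ns hω (e ▸ x.2.2) hI ha h1 h2 h3 h4 (by
        rwa [Set.image_singleton, e] at h5))
  have nC : ∀ {y} (hy : y ∈ G') (hN : y⁻¹ * F' y ∈ X'.NN) {u} {x : GF F' G'},
      (x : Y') = (X'.conj hy hN).τ (coch u ω) → (π x = 1 ↔ Ce I u) := fun hy hN u x e =>
    (hk x).trans (e ▸ ce_iff (cjI I hy hN) hω u)
  have nZ : ∀ {y} (hy : y ∈ G') (hN : y⁻¹ * F' y ∈ X'.NN) {u} {x : GF F' G'}, π x ∈ D →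
      (x : Y') = (X'.conj hy hN).τ (coch u ω) → 3 ∣ n u → π x = 1 := fun hy hN u x hx e h1 =>
    (nC hy hN e).2 ((H.sing u h1).resolve_right (nI hy hN hx e))
  have fr : ∀ (x : GF F' G') (j : ℕ), x ^ 3 ^ j = 1 → ∃ (y : Y') (hy : y ∈ G') (hN : y⁻¹ * F' y ∈ X'.NN),
      (x : Y') ∈ (X'.conj hy hN).T := fun x j hj =>
    TO.E6.exists_frame X' x.2 (not_dvd_ord Nat.prime_three (by norm_num) (congrArg Subtype.val hj))
  have e9 : ∀ x : GF F' G', π x ∈ D → x ^ 3 ^ 2 = 1 → x ^ 3 = 1 := fun x hx h1 => by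
    obtain ⟨y, hy, hN, hT⟩ := fr x 2 h1
    obtain ⟨u, hu⟩ := exists_coch (X'.conj hy hN) (ζ := ζ) (by omega) hT (hζ ▸ congrArg Subtype.val h1)
    obtain ⟨M, a1, -, u', a3⟩ := (H.conj hy hN).fix (hu ▸ x.2.2)
    rw [hζ] at a3
    obtain ⟨b1, b2⟩ := H.nine M a1 u u' a3
    have h2 : ((x ^ 3 : GF F' G') : Y') = (X'.conj hy hN).τ (coch u ω) := by
      rw [Subgroup.coe_pow, hu, e0, map_pow, map_pow]
    exact Subtype.ext (h2.trans ((tau_one _).2 (hω ▸ b2 ((nC hy hN h2).1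
      (nZ hy hN (by rw [map_pow]; exact pow_mem hx 3) h2 b1)))))
  have e3 : ∀ x : GF F' G', π x ∈ D → x ^ 3 = 1 := fun x hx => by
    obtain ⟨i, hi⟩ := h.pelt hx
    have h1 : x ^ 3 ^ (i + 1) = 1 := Subtype.ext (by
      rw [pow_succ, pow_mul]
      exact I.pow_eq_one (x ^ 3 ^ i).2.1 ((hk _).1 (by rw [map_pow, hi])))
    clear hi
    generalize i + 1 = j at h1
    induction j generalizing x with
    | zero => rw [show x = 1 from (pow_one x).symm.trans h1, one_pow]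
    | succ j ih =>
      exact e9 x hx ((pow_mul x 3 3).trans (ih _ (by rw [map_pow]; exact pow_mem hx 3) (by rw [← pow_mul, ← pow_succ', h1])))
  have co : ∀ {y} (hy : y ∈ G') (hN : y⁻¹ * F' y ∈ X'.NN) {x : GF F' G'}, π x ∈ D → (x : Y') ∈ (X'.conj hy hN).T →
      ∃ u, (x : Y') = (X'.conj hy hN).τ (coch u ω) := fun hy hN x hx hT =>
    exists_coch _ (by omega) hT (hω ▸ congrArg Subtype.val (e3 x hx))
  have tor : ∀ a b d : GF F' G', π a ∈ D → π b ∈ D → π d ∈ D → π a ≠ 1 → a * b = b * a → a * d = d * a → b * d = d * b →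
      ∃ (y : Y') (hy : y ∈ G') (hN : y⁻¹ * F' y ∈ X'.NN) (u v w : X'.R → ℤ), (a : Y') = (X'.conj hy hN).τ (coch u ω) ∧
        (b : Y') = (X'.conj hy hN).τ (coch v ω) ∧ (d : Y') = (X'.conj hy hN).τ (coch w ω) := fun a b d ha hb hd h1 h2 h3 h4 => by
    obtain ⟨y, hy, hN, hT⟩ := fr a 1 (e3 a ha)
    obtain ⟨u, hu⟩ := co hy hN ha hT
    obtain ⟨g, hg, h5⟩ := (H.conj hy hN).toral hω (mt (nC hy hN hu).2 h1) (nI hy hN ha hu) (A := {a.1, b.1, d.1})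
      (Set.toFinite _) (by rintro _ (rfl | rfl | rfl) <;> exact Subtype.prop _)
      (by
        rintro _ (rfl | rfl | rfl)
        exacts [congrArg Subtype.val (e3 a ha), congrArg Subtype.val (e3 b hb), congrArg Subtype.val (e3 d hd)])
      (by
        rintro _ (rfl | rfl | rfl) _ (rfl | rfl | rfl)
        exacts [rfl, congrArg Subtype.val h2, congrArg Subtype.val h3, congrArg Subtype.val h2.symm, rfl,
          congrArg Subtype.val h4, congrArg Subtype.val h3.symm, congrArg Subtype.val h4.symm, rfl]) (.inl hu.symm)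
    obtain ⟨y', hy', hN', h6, -⟩ := SB.Exc.Max.exists_conj_le_T X' (Z := {a.1, b.1, d.1})
      (by
        rintro _ (rfl | rfl | rfl)
        exacts [.inl a.2.2, .inr (.inl b.2.2), .inr (.inr d.2.2)]) (mul_mem hg hy)
      fun z hz => (show y⁻¹ * (g⁻¹ * z * g) * y = (g * y)⁻¹ * z * (g * y) by group) ▸ mem_cj.1 (h5 z hz)
    obtain ⟨u, hu⟩ := co hy' hN' ha (h6 (.inl rfl))
    obtain ⟨v, hv⟩ := co hy' hN' hb (h6 (.inr (.inl rfl)))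
    obtain ⟨w, hw⟩ := co hy' hN' hd (h6 (.inr (.inr rfl)))
    exact ⟨y', hy', hN', u, v, w, hu, hv, hw⟩
  by_cases hab : ∀ a b : GF F' G', π a ∈ D → π b ∈ D → a * b = b * a
  · obtain ⟨a, ha, b, hb, d, hd, h1⟩ := exists_three h0 fun d hd => by
      obtain ⟨d, rfl⟩ := hs d
      rw [← map_pow, e3 d hd, map_one]
    obtain ⟨a, rfl⟩ := hs a
    obtain ⟨b, rfl⟩ := hs b
    obtain ⟨d, rfl⟩ := hs d
    obtain ⟨y, hy, hN, u, v, w, hu, hv, hw⟩ := tor a b d ha hb hd (fun e => absurd (h1 1 0 0 (by simpa using e)).1 (by decide))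
      (hab _ _ ha hb) (hab _ _ ha hd) (hab _ _ hb hd)
    obtain ⟨i, j, m, h2, h3⟩ := H.three u v w
    refine h2 (h1 i j m ?_)
    rw [← map_pow, ← map_pow, ← map_pow, ← map_mul, ← map_mul]
    refine nZ hy hN ?_ ?_ h3
    · rw [map_mul, map_mul, map_pow, map_pow, map_pow]
      exact mul_mem (mul_mem (pow_mem ha _) (pow_mem hb _)) (pow_mem hd _)
    · rw [← zero_add (((i : ℕ) : ℤ) • u), tau_add, tau_add, tau_add, ← hu, ← hv, ← hw, (tau_one _ (u := 0)).2 fun _ => dvd_zero _,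
        one_mul]
      rfl
  push Not at hab
  obtain ⟨g, a, hg, ha, h1⟩ := hab
  have hV : ∀ a g : GF F' G', π a ∈ D → π g ∈ D → g * a * g⁻¹ * a⁻¹ ∈ π.ker := fun a g ha hg => by
    rw [MonoidHom.mem_ker, map_mul, map_mul, map_mul, map_inv, map_inv, (h.ab _ hg _ ha).eq]
    group
  have h2 : Nat.card π.ker ≤ 3 := by
    rw [← card_map_of_injective (subtype_injective (GF F' G'))]
    have h3 := orderOf_dvd_of_pow_eq_one (w3 X' u₀)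
    have : Finite (zpowers (X'.τ (coch u₀ ω))) := finite_zpowers.2 (isOfFinOrder_iff_pow_eq_one.2 ⟨3, by norm_num, w3 X' u₀⟩)
    refine (card_le_of_le (K := zpowers (X'.τ (coch u₀ ω))) ?_).trans ((Nat.card_zpowers _).trans_le (Nat.le_of_dvd (by norm_num) h3))
    rintro _ ⟨z, h4, rfl⟩
    have h5 := (hk z).1 h4
    obtain ⟨u, hu⟩ := exists_coch X' (ζ := ω) (by omega) (I.ker z z.2.1 h5) (hω ▸ I.pow_eq_one z.2.1 h5)
    obtain ⟨e, u', h6⟩ := H.rad u ((ce_iff I hω u).1 (hu ▸ h5))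
    exact ⟨e, by
      rw [coe_subtype, hu, (tau_eq X' (u := u) (v := e • u₀)).2 ⟨u', by rw [hω]; exact h6⟩, coch_zsmul, map_zpow, map_zpow]⟩
  obtain ⟨r, hr, h3⟩ : ∃ r ∈ D.comap π ⊓ centralizer {a} ⊓ centralizer {g}, π r ≠ 1 := by
    by_contra h3
    push Not at h3
    have h4 := card_dvd_cen hc (V := D.comap π) fun x hx => hV a x ha hx
    have h5 := card_dvd_cen hc (V := D.comap π ⊓ centralizer {a}) fun x hx => hV g x hg hx.1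
    rw [card_comap hs D] at h4
    have h6 := Nat.le_of_dvd (Nat.mul_pos Nat.card_pos Nat.card_pos)
      ((h0.trans (Nat.dvd_of_mul_dvd_mul_right Nat.card_pos h4)).trans h5)
    have h7 := Nat.mul_le_mul ((card_le_of_le (K := π.ker) h3).trans h2) h2
    omega
  obtain ⟨z, e1⟩ : ∃ z, z = g * a * g⁻¹ * a⁻¹ := ⟨_, rfl⟩
  have h4 : z ∈ π.ker := e1 ▸ hV a g ha hg
  have h5 := mem_center_iff.1 (hc h4)
  have h6 : z ≠ 1 := fun e => h1 (by rwa [e, eq_comm, mul_inv_eq_one, mul_inv_eq_iff_eq_mul] at e1)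
  have h7 : ∀ i : ℕ, g * (a * r ^ i) * g⁻¹ = a * r ^ i * z := fun i => by
    rw [h5, e1, ← mul_assoc g, mul_assoc _ (r ^ i), ((show Commute r g from mem_centralizer_singleton_iff.1 hr.2).pow_left
      i).inv_right.eq]
    group
  have h8 : ∀ i : ℕ, π (a * r ^ i) ≠ 1 := fun i e => h6 (by
    have := h7 i
    rwa [mem_center_iff.1 (hc e) g, mul_inv_cancel_right, left_eq_mul] at this)
  obtain ⟨y, hy, hN, u, v, w, hu, hv, hw⟩ := tor a r z ha hr.1.1 (h4 ▸ one_mem D) (by simpa using h8 0)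
    (mem_centralizer_singleton_iff.1 hr.1.2).symm (h5 a) (h5 r)
  refine h3 (nZ hy hN hr.1.1 hv (H.two u v fun i => ?_))
  have h9 : ((a * r ^ i : GF F' G') : Y') = (X'.conj hy hN).τ (coch (u + (i : ℤ) • v) ω) := by
    rw [tau_add, ← hu, ← hv]
    rfl
  refine ⟨mt (nZ hy hN ?_ h9) (h8 i), (H.conj hy hN).not_root hω ((nC hy hN hw).1 h4)
    (fun e => h6 (Subtype.ext (hw.trans e))) g.2.1 ?_⟩
  · rw [map_mul, map_pow]
    exact mul_mem ha (D.pow_mem hr.1.1 i)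
  · rw [← h9, ← hw]
    exact congrArg Subtype.val (h7 i)

end Cfsg.Agent.KM.Xc
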