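import Cfsg.Agent.KM.Sp.Loc
import Cfsg.Agent.KM.Tor.Gen
import Cfsg.Agent.DL.St.Dat
import Cfsg.Agent.S0144
import Cfsg.Agent.S0017

/-!
# KM, exceptional covers: the key lemma (helper33)

* `abS_of_two` : `C(A)` is a `{p, l}`-group without normal `p`-subgroup, `A ⊆ D` : the group `D` is a Sylow subgroup;
* `eq_bot_of_norm` : `O_p(G ^ F) = 1`;
* `Cv` : `S` is a central quotient of a subgroup of `G ^ F`; `Cv.key`.
-/

set_option autoImplicit false
set_option linter.unusedSectionVars false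

namespace Cfsg.Agent.KM.Xc

open Cfsg Cfsg.Agent.DL Subgroup Cfsg.Agent.BHZ.Spor Cfsg.Agent.KM.Sp

theorem exists_two {p l n : ℕ} (hn : n ≠ 0) (h : ∀ r : ℕ, r.Prime → r ∣ n → r = p ∨ r = l) :
    ∃ a b : ℕ, n = p ^ a * l ^ b := by
  induction n using induction_on_primes with
  | zero => exact absurd rfl hn
  | one => exact ⟨0, 0, by simp⟩
  | prime_mul r m hr ih =>
    obtain ⟨i, j, e⟩ := ih (by rintro rfl; simp at hn) fun s hs hd => h s hs (hd.mul_left r)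
    rcases h r hr (dvd_mul_right _ _) with h1 | h1
    · exact ⟨i + 1, j, by rw [e, h1]; ring⟩
    · exact ⟨i, j + 1, by rw [e, h1]; ring⟩

/-- **`{p, l}`-centralisers** -/
theorem abS_of_two {S : Type} [Group S] [Finite S] {l p : ℕ} [hl : Fact l.Prime] (hp : p.Prime) {D : Subgroup S}
    (h : LocA l D) {A : Set S} (hA : A ⊆ D)
    (h1 : ∀ x ∈ centralizer A, (orderOf x).Prime → orderOf x = p ∨ orderOf x = l)
    (h2 : ∀ U : Subgroup S, IsPGroup p U → U ≤ centralizer A → (∀ x ∈ centralizer A, ∀ u ∈ U, x * u * x⁻¹ ∈ U) →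
      U = ⊥) : LV.AbS l S := by
  let C : Subgroup S := centralizer A
  have h3 : ∀ r : ℕ, r.Prime → r ∣ Nat.card C → r = p ∨ r = l := fun r hr hd => by
    have : Fact r.Prime := ⟨hr⟩
    obtain ⟨x, hx⟩ := exists_prime_orderOf_dvd_card' r hd
    rw [← Subgroup.orderOf_coe] at hx
    exact hx ▸ h1 x x.2 (hx ▸ hr)
  obtain ⟨a, b, e⟩ := exists_two Nat.card_pos.ne' h3
  have hs : Group.IsSolvable C := S0144.result p l a b hp hl.out e
  have hnorm : ∀ K : Subgroup C, K.Normal → ∀ x ∈ C, ∀ u ∈ K.map C.subtype, x * u * x⁻¹ ∈ K.map C.subtype := by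
    rintro K hK x hx _ ⟨u, hu, rfl⟩
    exact ⟨_, hK.conj_mem u hu ⟨x, hx⟩, rfl⟩
  have h4 : pPrimeCore l C = ⊥ := by
    have h5 := Lib.Cores.pPrimeCore_coprime (G := C) l
    obtain ⟨i, j, e'⟩ := exists_two (p := p) (l := p) (n := Nat.card (pPrimeCore l C)) Nat.card_pos.ne'
      fun r hr hd => Or.inl ((h3 r hr (hd.trans (card_subgroup_dvd_card _))).resolve_right fun h6 =>
        hr.one_lt.ne' (Nat.eq_one_of_dvd_coprimes h5 hd (h6 ▸ dvd_rfl)))
    rw [← pow_add] at e'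
    have h6 := h2 _ ((IsPGroup.of_card e').map C.subtype) (map_subtype_le _)
      (hnorm _ (Lib.Cores.pPrimeCore_normal l))
    exact (map_eq_bot_iff_of_injective _ (subtype_injective C)).1 h6
  have h5 := S0017.result l h4
  have hD : ∀ x : S, (∀ d ∈ D, Commute d x) → x ∈ C := fun x hx => mem_centralizer_iff.2 fun d hd => hx d (hA hd)
  have h6 := h.core _ ((Lib.Cores.pCore_isPGroup l).map C.subtype)
    fun x hx => hnorm _ (Lib.Cores.pCore_normal l) x (hD x hx)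
  obtain ⟨g, hg, hgD, hmax⟩ := h.syl
  have h7 : (⟨g, hD g hgD⟩ : C) ∈ pCore l C :=
    h5 (mem_centralizer_iff.2 fun u hu => Subtype.ext (hgD u (h6 ⟨u, hu, rfl⟩)))
  obtain ⟨j, hj⟩ := pelt_of_mem (Lib.Cores.pCore_isPGroup l) h7
  have h8 : g = 1 := eq_one_of_reg hg (congrArg Subtype.val hj)
  exact h.abS fun P hP hle => hmax P hP hle fun x _ => by rw [h8]; exact Commute.one_right x

variable {p : ℕ} [Fact p.Prime] {k : Type} [Field k] [CharP k p] {Y : Type} [Group Y] {N : Type} [Fintype N]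
  [DecidableEq N] {ρ : Y →* GL N k} {F : MulAut Y} {G : Subgroup Y} [IsAlgClosed k]

theorem eq_bot_qs {X : Datum p ρ F G} (hq : X.QS) {V : Subgroup Y} (hV : V ≤ GF F G) (hP : IsPGroup p V)
    (hn : ∀ u ∈ GF F G, (∃ j : ℕ, u ^ p ^ j = 1) → ∀ v ∈ V, u * v * u⁻¹ ∈ V) : V = ⊥ := by
  have := X.amb.finite_GF G
  have h1 := St.card_U X.sbn (St.aut_qs hq) (H := GF F G) (fun _ => mem_GF) X.isPGroup_U
    (fun _ => St.eq_one_of_pow _) (St.move hq)
  have h2 : Nat.card (X.U.subgroupOf (GF F G)) = p ^ (Nat.card (GF F G)).factorization p := by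
    rw [← h1, ← Subgroup.inf_subgroupOf_right]
    exact Nat.card_congr (Subgroup.subgroupOfEquivOfLe inf_le_right).toEquiv
  let P : Sylow p (GF F G) := Sylow.ofCard _ h2
  have key : ∀ Q : Sylow p (GF F G), V.subgroupOf (GF F G) ≤ Q := fun Q => by
    have h3 := isPGroup_sup Q.isPGroup' (hP.comap_subtype (K := GF F G)) fun a ha b hb => by
      obtain ⟨j, hj⟩ := pelt_of_mem Q.isPGroup' ha
      exact hn a a.2 ⟨j, congrArg Subtype.val hj⟩ b hb
    exact le_sup_right.trans (Q.is_maximal' h3 le_sup_left).le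
  obtain ⟨a, ha, h3, h4⟩ := (St.aut_qs hq).exists_fix_N X.sbn (St.map_w0 hq.Fw_simple)
  refine eq_bot_iff.2 fun v hv => St.opp X ha h4 (key P (x := ⟨v, hV hv⟩) hv) ?_
  have h5 := key ((⟨a, X.NN_le_G ha, h3⟩ : GF F G) • P) (x := ⟨v, hV hv⟩) hv
  rw [Sylow.coe_subgroup_smul, mem_pointwise_smul_iff_inv_smul_mem, ← map_inv] at h5
  have h6 : (a⁻¹ * v * a⁻¹⁻¹ : Y) ∈ X.U := h5
  rwa [inv_inv] at h6

/-- **`O_p(G ^ F) = 1`** -/
theorem eq_bot_of_norm (X : Datum p ρ F G) {V : Subgroup Y} (hV : V ≤ GF F G) (hP : IsPGroup p V)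
    (hn : ∀ u ∈ GF F G, (∃ j : ℕ, u ^ p ^ j = 1) → ∀ v ∈ V, u * v * u⁻¹ ∈ V) : V = ⊥ := by
  obtain ⟨y, hy, hF, hq⟩ := X.exists_qs
  exact eq_bot_qs hq hV hP hn

variable (p F G) in
/-- `S` is a central quotient of a subgroup of `G ^ F` which contains all `p`-elements -/
structure Cv (S : Type) [Group S] where
  H0 : Subgroup Y
  le : H0 ≤ GF F G
  uni : ∀ u ∈ GF F G, (∃ j : ℕ, u ^ p ^ j = 1) → u ∈ H0
  π : ↥H0 →* S
  surj : Function.Surjective π
  ker : π.ker ≤ center ↥H0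

variable {S : Type} [Group S] (c : Cv p F G S)

theorem Cv.fin (X : Datum p ρ F G) : Finite c.H0 :=
  have := X.amb.finite_GF G
  Finite.of_injective _ (inclusion_injective c.le)

/-- no element of prime order different from `p` and `l` centralises `Z` -/
def Cv.NS (l : ℕ) (Z : Set Y) : Prop :=
  ∀ x ∈ c.H0, ∀ s j : ℕ, s.Prime → s ≠ p → s ≠ l → x ^ s ^ j = 1 → x ∈ centralizer Z → x = 1

/-- **The key lemma.** -/
theorem Cv.key (X : Datum p ρ F G) {l : ℕ} [hl : Fact l.Prime] (hlp : l ≠ p) {D : Subgroup S} (h : LocA l D)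
    {Z : Set c.H0} (hT : ∀ z ∈ Z, (z : Y) ∈ X.T) (he : ∀ z ∈ Z, ∃ j : ℕ, z ^ l ^ j = 1) (hD : ∀ z ∈ Z, c.π z ∈ D)
    (ns : c.NS l (Subtype.val '' Z)) : LV.AbS l S := by
  have := c.fin X
  have : Finite S := Finite.of_surjective _ c.surj
  have hp : p.Prime := Fact.out
  have hZ : Subtype.val '' Z ⊆ X.T := by
    rintro _ ⟨z, hz, rfl⟩
    exact hT z hz
  have hcm : ∀ (a : c.H0) (s j : ℕ), s.Prime → s ≠ l → a ^ s ^ j = 1 → c.π a ∈ centralizer (c.π '' Z) →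
      (a : Y) ∈ centralizer (Subtype.val '' Z) := fun a s j hs hsl hj ha => by
    refine mem_centralizer_iff.2 ?_
    rintro _ ⟨z, hz, rfl⟩
    obtain ⟨i, hi⟩ := he z hz
    refine congrArg Subtype.val (commute_p_reg c.ker (mem_centralizer_iff.1 ha _ ⟨z, hz, rfl⟩) hi
      (not_dvd_of_pow (fun h1 => ?_) hj))
    exact hsl ((Nat.prime_dvd_prime_iff_eq hl.out hs).1 (hl.out.dvd_of_dvd_pow h1)).symm
  refine abS_of_two hp h (A := c.π '' Z) (by rintro _ ⟨z, hz, rfl⟩; exact hD z hz) (fun x hx ho => ?_)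
    fun U hU hUC hn => ?_
  · by_contra h1
    rw [not_or] at h1
    have : Fact (orderOf x).Prime := ⟨ho⟩
    obtain ⟨a, rfl, j, hj⟩ := exists_p_lift (p := orderOf x) c.surj (x := x) (k := 1)
      (by rw [pow_one, pow_orderOf_eq_one])
    have h2 := ns a a.2 _ j ho h1.1 h1.2 (congrArg Subtype.val hj) (hcm a _ j ho h1.2 hj hx)
    rw [show a = 1 from Subtype.ext h2, map_one, orderOf_one] at ho
    exact Nat.not_prime_one ho
  · obtain ⟨V, hV, hm⟩ := exists_plift (p := p) c.ker hU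
    have hF : ∀ z ∈ Subtype.val '' Z, F z ∈ Subtype.val '' Z := by
      rintro _ ⟨z, hz, rfl⟩
      rw [(mem_GF.1 (c.le z.2)).2]
      exact ⟨z, hz, rfl⟩
    have h1 := eq_bot_of_norm (X.sub hZ (fun _ => X.g_mem_Sz hZ hF) rfl) (V := V.map c.H0.subtype) ?_ (hV.map _) ?_
    · refine eq_bot_iff.2 fun u hu => ?_
      obtain ⟨j, hj⟩ := pelt_of_mem hU hu
      obtain ⟨a, rfl, ha⟩ := exists_p_lift c.surj hj
      have h2 : (a : Y) ∈ V.map c.H0.subtype := ⟨a, (hm a).2 ⟨hu, ha⟩, rfl⟩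
      rw [h1] at h2
      rw [show a = 1 from Subtype.ext h2, map_one]
      exact one_mem _
    · rintro _ ⟨a, ha, rfl⟩
      obtain ⟨h2, j, hj⟩ := (hm a).1 ha
      refine ⟨X.mem_cen_of_pow hZ (c.le a.2).1 (hcm a p j hp hlp.symm hj (hUC h2)) (j := j) ?_, (c.le a.2).2⟩
      rw [show (c.H0.subtype a) ^ p ^ j = 1 from congrArg Subtype.val hj]
      exact one_mem _
    · rintro u hu hj _ ⟨a, ha, rfl⟩
      have hu0 : u ∈ c.H0 := c.uni u ⟨X.cen_le_G _ hu.1, hu.2⟩ hj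
      obtain ⟨h2, j, h3⟩ := (hm a).1 ha
      refine ⟨⟨u, hu0⟩ * a * (⟨u, hu0⟩ : c.H0)⁻¹, (hm _).2 ⟨?_, j, by rw [conj_pow, h3]; simp⟩, rfl⟩
      rw [map_mul, map_mul, map_inv]
      refine hn _ (mem_centralizer_iff.2 ?_) _ h2
      rintro _ ⟨z, hz, rfl⟩
      rw [← map_mul, ← map_mul]
      exact congrArg c.π (Subtype.ext (mem_centralizer_iff.1 (X.cen_le_centralizer hZ hu.1) _ ⟨z, hz, rfl⟩))

end Cfsg.Agent.KM.Xc
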